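import Groth.Agent.Grass47.Univ
import Groth.Agent.PicFRel.AlgClosedFamily
import Groth.Agent.HQ47.PnPol

/-!
# The Grassmannian over a base scheme
-/

set_option autoImplicit false
set_option linter.style.haveILetI false
set_option backward.isDefEq.respectTransparency false
set_option backward.isDefEq.respectTransparency.types false

universe u

open CategoryTheory CategoryTheory.Limits AlgebraicGeometry

attribute [local instance] MvPolynomial.gradedAlgebra

noncomputable section

namespace Groth.Agent.Grass47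

open Groth.Agent Groth.Agent.CurveEnd

variable {N k : ℕ}

local notation "free[" Z "," N "]" => FlatMod.freeMod Z N

/-- Composed inverse images of a quotient agree up to isomorphism. -/
theorem exists_iso_pullq {X Y Z : Scheme.{u}} {L : X.Modules} (q : free[X, N] ⟶ L) (p : Z ⟶ Y) (h : Y ⟶ X) :
    ∃ ε : (Scheme.Modules.pullback (p ≫ h)).obj L ≅ (Scheme.Modules.pullback p).obj ((Scheme.Modules.pullback h).obj L),
      pullq (p ≫ h) q ≫ ε.hom = pullq p (pullq h q) := by
  let c := Scheme.Modules.pullbackComp p h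
  have key : (freeI (unitC p h) N).inv ≫ (Scheme.Modules.pullback (p ≫ h)).map q =
      pullq p (pullq h q) ≫ c.hom.app L := by
    rw [freeI_unitC, pullq, pullq]
    simp only [Category.assoc, Functor.map_comp]
    rw [← c.hom.naturality q]
    rfl
  let a := (unitC p h).symm ≪≫ unitI (p ≫ h)
  haveI := isIso_smulMod_entry a ((Scheme.Modules.pullback (p ≫ h)).obj L)
  refine ⟨asIso (smulMod _ (entry1 a.hom)) ≪≫ (c.app L).symm, ?_⟩
  rw [freeI_change (unitI (p ≫ h)) (unitC p h), Category.assoc, smulMod_comm] at key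
  rw [Iso.trans_hom, asIso_hom, ← Category.assoc]
  refine (congrArg (· ≫ (c.app L).symm.hom) key).trans ?_
  simp

/-- The Grassmannian over `S`. -/
def GrS (hk : k ≤ N) (S : Scheme.{u}) : Scheme.{u} :=
  pullback (pl.{u} hk ≫ CohB1.ProjSpace.toSpec (plDim N k) ZZ.{u}) (specULiftZIsTerminal.from S)

variable (hk : k ≤ N) (S : Scheme.{u})

/-- The projection to the absolute Grassmannian. -/
def grFst : GrS hk S ⟶ Gr.{u} hk := pullback.fst _ _

/-- The structure map. -/
def grπ : GrS hk S ⟶ S := pullback.snd _ _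

/-- The Plücker embedding over `S`. -/
def plS : GrS hk S ⟶ CohB1.ProjSpaceOver (plDim N k) S :=
  pullback.map _ _ (CohB1.ProjSpace.toSpec (plDim N k) ZZ.{u}) (specULiftZIsTerminal.from S) (pl.{u} hk) (𝟙 _)
    (𝟙 _) (Category.comp_id _) (specULiftZIsTerminal.hom_ext _ _)

theorem plS_fst : plS hk S ≫ HQ47.pnFst (plDim N k) S = grFst hk S ≫ pl.{u} hk := pullback.lift_fst _ _ _

theorem plS_toBase : plS hk S ≫ CohB1.ProjSpaceOver.toBase (plDim N k) S = grπ hk S := by
  refine (pullback.lift_snd _ _ _).trans ?_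
  exact Category.comp_id _

theorem isPullback_plS : IsPullback (grFst hk S) (plS hk S) (pl.{u} hk) (HQ47.pnFst (plDim N k) S) := by
  refine IsPullback.of_bot ?_ (plS_fst hk S).symm (IsPullback.of_hasPullback _ _)
  rw [show plS hk S ≫ pullback.snd _ _ = grπ hk S from plS_toBase hk S]
  exact IsPullback.of_hasPullback _ _

instance : IsClosedImmersion (plS hk S) :=
  MorphismProperty.of_isPullback (isPullback_plS hk S) inferInstance

instance isProper_grπ : IsProper (grπ hk S) := by
  haveI := PicFRel.AlgClosedFamily.isProper_toBase (plDim N k) S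
  rw [← plS_toBase]
  infer_instance

/-- The tautological quotient over `S`. -/
abbrev tautQS : (GrS hk S).Modules := (Scheme.Modules.pullback (grFst hk S)).obj (tautQ.{u} hk)

/-- The tautological quotient map over `S`. -/
abbrev tautqS : free[GrS hk S, N] ⟶ tautQS hk S := pullq (grFst hk S) (tautq.{u} hk)

theorem rank_tautQS : FlatMod.IsFinLocFreeOfRank k (tautQS hk S) := rank_pullback_tautQ hk _

/-- **Universal property** over `S`. -/
theorem existsUnique_classifiesS {T : Scheme.{u}} (g : T ⟶ S) {L : T.Modules}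
    (hL : FlatMod.IsFinLocFreeOfRank k L) (s : free[T, N] ⟶ L) [Epi s] :
    ∃! h : T ⟶ GrS hk S, h ≫ grπ hk S = g ∧
      ∃ e : (Scheme.Modules.pullback h).obj (tautQS hk S) ≅ L, pullq h (tautqS hk S) ≫ e.hom = s := by
  have hiff : ∀ h : T ⟶ GrS hk S,
      (∃ e : (Scheme.Modules.pullback h).obj (tautQS hk S) ≅ L, pullq h (tautqS hk S) ≫ e.hom = s) ↔
        Classifies hk s (h ≫ grFst hk S) := by
    intro h
    obtain ⟨ε, hε⟩ := exists_iso_pullq (tautq.{u} hk) h (grFst hk S)
    constructor
    · rintro ⟨e, he⟩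
      exact ⟨ε ≪≫ e, by rw [Iso.trans_hom, reassoc_of% hε, he]⟩
    · rintro ⟨e, he⟩
      exact ⟨ε.symm ≪≫ e, by rw [Iso.trans_hom, Iso.symm_hom, ← hε, Category.assoc, Iso.hom_inv_id_assoc, he]⟩
  obtain ⟨h₀, hc, hu⟩ := existsUnique_classifies hk hL s
  let h : T ⟶ GrS hk S := pullback.lift h₀ g (specULiftZIsTerminal.hom_ext _ _)
  refine ⟨h, ⟨pullback.lift_snd _ _ _, (hiff h).2 ?_⟩, ?_⟩
  · rw [show h ≫ grFst hk S = h₀ from pullback.lift_fst _ _ _]
    exact hc
  · rintro h' ⟨hg, he⟩
    refine pullback.hom_ext ?_ ?_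
    · refine Eq.trans ?_ (pullback.lift_fst h₀ g _).symm
      exact hu _ ((hiff h').1 he)
    · exact hg.trans (pullback.lift_snd h₀ g _).symm

end Groth.Agent.Grass47
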