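import Groth.Agent.Grass47.Plucker
import Groth.Agent.Lib.PnDualSymbol
import Groth.Agent.PnCoh.Chow.Proper
import Mathlib.AlgebraicGeometry.IdealSheaf.Subscheme
import Mathlib.AlgebraicGeometry.Limits
import Mathlib.AlgebraicGeometry.Morphisms.ClosedImmersion

/-!
# The Grassmannian over the integers

The scheme-theoretic image of the standard charts in the Plücker space; every chart is an open
subscheme of it.
-/

set_option autoImplicit false
set_option linter.style.haveILetI false
set_option backward.isDefEq.respectTransparency false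
set_option backward.isDefEq.respectTransparency.types false

universe u

open CategoryTheory CategoryTheory.Limits AlgebraicGeometry HomogeneousLocalization

attribute [local instance] MvPolynomial.gradedAlgebra

noncomputable section

namespace Groth.Agent.Grass47

variable {N k : ℕ} (hk : k ≤ N)

/-- The free entries of a chart. -/
abbrev Var (s : Sub N k) : Type := Fin k × {i : Fin N // i ∉ s.1}

/-- The ring of a chart. -/
abbrev CRing (s : Sub N k) : Type u := MvPolynomial (Var s) ZZ.{u}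

/-- The matrix of a chart. -/
def mu (s : Sub N k) : Matrix (Fin k) (Fin N) (CRing.{u} s) :=
  Matrix.of fun j i => if h : i ∈ s.1 then (if s.em j = i then 1 else 0) else MvPolynomial.X (j, ⟨i, h⟩)

theorem mu_submatrix (s : Sub N k) : (mu.{u} s).submatrix id s.em = 1 := by
  ext a b
  simp [mu, s.em_mem b, Matrix.one_apply, s.em_injective.eq_iff]

/-- A chart. -/
abbrev Chart (s : Sub N k) : Scheme.{u} := Spec (CommRingCat.of (CRing.{u} s))

/-- The matrix of global functions of a chart. -/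
def univMat (s : Sub N k) : Matrix (Fin k) (Fin N) Γ(Chart.{u} s, ⊤) :=
  (mu.{u} s).map (Scheme.ΓSpecIso (CommRingCat.of (CRing.{u} s))).inv.hom

theorem univMat_submatrix (s : Sub N k) : (univMat.{u} s).submatrix id s.em = 1 := by
  rw [univMat, Matrix.submatrix_map, mu_submatrix, Matrix.map_one _ (map_zero _) (map_one _)]

theorem mnr_univMat (s : Sub N k) : mnr (univMat.{u} s) s.em = 1 := by
  rw [mnr, univMat_submatrix, Matrix.det_one]

theorem isUnit_univMat (s : Sub N k) : IsUnit (mnr (univMat.{u} s) s.em) := by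
  rw [mnr_univMat]
  exact isUnit_one

variable {W W' : Scheme.{u}}

/-- The point of a chart given by a normalised matrix. -/
def chartPt (s : Sub N k) (M : Matrix (Fin k) (Fin N) Γ(W, ⊤)) : W ⟶ Chart.{u} s :=
  W.toSpecΓ ≫ Spec.map (CommRingCat.ofHom (MvPolynomial.eval₂Hom (zHom _) fun v : Var s => M v.1 v.2.1))

theorem chartPt_appTop (s : Sub N k) (M : Matrix (Fin k) (Fin N) Γ(W, ⊤)) (a : CRing.{u} s) :
    (chartPt s M).appTop ((Scheme.ΓSpecIso (CommRingCat.of (CRing.{u} s))).inv a) =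
      MvPolynomial.eval₂Hom (zHom _) (fun v : Var s => M v.1 v.2.1) a := by
  rw [chartPt, Scheme.Hom.comp_appTop, Scheme.toSpecΓ_appTop, ← CommRingCat.comp_apply, ← Category.assoc,
    ← Scheme.ΓSpecIso_inv_naturality]
  simp

theorem univMat_map_chartPt (s : Sub N k) (M : Matrix (Fin k) (Fin N) Γ(W, ⊤))
    (hM : M.submatrix id s.em = 1) : (univMat.{u} s).map (chartPt s M).appTop.hom = M := by
  ext j i
  show (chartPt s M).appTop ((Scheme.ΓSpecIso _).inv (mu s j i)) = M j i
  rw [chartPt_appTop, mu]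
  by_cases h : i ∈ s.1
  · obtain ⟨b, rfl⟩ := s.exists_em h
    have h1 : M j (s.em b) = (1 : Matrix (Fin k) (Fin k) Γ(W, ⊤)) j b := by rw [← hM]; rfl
    rw [h1, Matrix.of_apply, dif_pos h]
    by_cases hjb : j = b
    · subst hjb; simp
    · rw [if_neg (fun he => hjb (s.em_injective he)), map_zero, Matrix.one_apply_ne hjb]
  · simp [h]

/-- The Plücker point of a chart. -/
def phi (s : Sub N k) : Chart.{u} s ⟶ PP.{u} N k := plucker hk (univMat.{u} s) s (isUnit_univMat s)

theorem chartPt_phi (s : Sub N k) (M : Matrix (Fin k) (Fin N) Γ(W, ⊤)) (hM : M.submatrix id s.em = 1) :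
    chartPt s M ≫ phi hk s = plucker hk M s (by rw [mnr, hM, Matrix.det_one]; exact isUnit_one) := by
  rw [phi, comp_plucker]
  exact plucker_congr hk (univMat_map_chartPt s M hM) _ _

theorem isUnit_of_basicOpen_eq_top {X : Scheme.{u}} {g : Γ(X, ⊤)} (h : X.basicOpen g = ⊤) : IsUnit g := by
  have H : ∀ (V : X.Opens) (hV : V ≤ ⊤), V = ⊤ → IsUnit (X.presheaf.map (homOfLE hV).op g) → IsUnit g := by
    rintro V hV rfl h'
    simpa using h'
  exact H _ (X.basicOpen_le g) h (RingedSpace.isUnit_res_basicOpen _ g)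

/-- The standard open of a coordinate. -/
def stdOpen (s : Sub N k) : (PP.{u} N k).Opens :=
  Proj.basicOpen (CohB1.polyGrading (plDim N k) ZZ.{u}) (MvPolynomial.X (idx hk s))

/-- The coordinate ring of a standard open. -/
abbrev SRing (s : Sub N k) : Type u :=
  Away (CohB1.polyGrading (plDim N k) ZZ.{u}) (MvPolynomial.X (idx hk s))

/-- The standard affine open. -/
def stdι (s : Sub N k) : Spec (CommRingCat.of (SRing.{u} hk s)) ⟶ PP.{u} N k :=
  Proj.awayι (CohB1.polyGrading (plDim N k) ZZ.{u}) (MvPolynomial.X (idx hk s)) (ProjPt.X_mem _) one_pos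

instance (s : Sub N k) : IsOpenImmersion (stdι.{u} hk s) :=
  inferInstanceAs (IsOpenImmersion (Proj.awayι _ _ (ProjPt.X_mem _) one_pos))

theorem opensRange_stdι (s : Sub N k) : (stdι.{u} hk s).opensRange = stdOpen hk s :=
  Proj.opensRange_awayι _ _ _ _

theorem isAffineOpen_stdOpen (s : Sub N k) : IsAffineOpen (stdOpen.{u} hk s) := by
  rw [← opensRange_stdι]
  exact isAffineOpen_opensRange _

theorem iSup_stdOpen : ⨆ s : Sub N k, stdOpen.{u} hk s = ⊤ := by
  refine top_le_iff.1 fun x _ => ?_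
  obtain ⟨⟨i⟩, hi⟩ := TopologicalSpace.Opens.mem_iSup.1
    ((PnDual.iSup_D_X (ι := Fin (plDim N k + 1)) (R := ZZ.{u})).ge (trivial : x ∈ (⊤ : (PP.{u} N k).Opens)))
  refine TopologicalSpace.Opens.mem_iSup.2 ⟨eqv hk i, ?_⟩
  simp only [stdOpen, idx, Equiv.symm_apply_apply]
  exact hi

/-- The map of a chart to the standard open. -/
def psi (s : Sub N k) : Chart.{u} s ⟶ Spec (CommRingCat.of (SRing.{u} hk s)) :=
  (Chart.{u} s).toSpecΓ ≫ Spec.map (CommRingCat.ofHom (ProjPt.coordHom _ (plHom hk (univMat.{u} s))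
    (by rw [plHom_X]; exact isUnit_univMat s)))

theorem psi_stdι (s : Sub N k) : psi hk s ≫ stdι.{u} hk s = phi hk s := by
  rw [psi, stdι, phi, plucker, ProjPt.pt, Category.assoc]

instance isClosedImmersion_psi (s : Sub N k) : IsClosedImmersion (psi.{u} hk s) := by
  have h1 : mnr (univMat.{u} s) s.em = 1 := mnr_univMat s
  let θ := ProjPt.coordHom (CohB1.polyGrading (plDim N k) ZZ.{u}) (t := MvPolynomial.X (idx hk s))
    (plHom hk (univMat.{u} s)) (by rw [plHom_X]; exact isUnit_univMat s)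
  have hθ : Function.Surjective θ := by
    intro b
    obtain ⟨a, rfl⟩ := (ConcreteCategory.bijective_of_isIso
      (Scheme.ΓSpecIso (CommRingCat.of (CRing.{u} s))).inv).2 b
    suffices H : ∀ a : CRing.{u} s, (Scheme.ΓSpecIso (CommRingCat.of (CRing.{u} s))).inv.hom a ∈ θ.range from H a
    intro a
    induction a using MvPolynomial.induction_on with
    | C r =>
      refine ⟨ProjPt.cst (idx hk s) r, ?_⟩
      rw [ProjPt.coordHom_cst]
      simp only [plHom, MvPolynomial.eval₂Hom_C]
      exact (RingHom.congr_fun (zHom_unique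
        ((Scheme.ΓSpecIso (CommRingCat.of (CRing.{u} s))).inv.hom.comp MvPolynomial.C)) r).symm
    | add p q hp hq => rw [map_add]; exact add_mem hp hq
    | mul_X p v hp =>
      rw [map_mul]
      refine mul_mem hp ?_
      obtain ⟨c, t, hc⟩ := exists_mnr_eq.{u} (Function.update s.em v.1 v.2.1) s
      have hv : (Scheme.ΓSpecIso (CommRingCat.of (CRing.{u} s))).inv.hom (MvPolynomial.X v) =
          (c : Γ(Chart.{u} s, ⊤)) * mnr (univMat.{u} s) t.em := by
        rw [← hc, mnr_update _ _ (univMat_submatrix s)]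
        obtain ⟨j, i, hi⟩ := v
        simp [univMat, mu, hi]
      rw [hv]
      refine mul_mem (intCast_mem _ c) ⟨ProjPt.crd (idx hk s) (idx hk t), ?_⟩
      rw [ProjPt.coordHom_crd _ _ _ (by rw [plHom_X, h1]), plHom_X]
  have h2 : IsClosedImmersion (Spec.map (CommRingCat.ofHom θ)) :=
    IsClosedImmersion.spec_of_surjective _ hθ
  exact inferInstanceAs (IsClosedImmersion (_ ≫ Spec.map (CommRingCat.ofHom θ)))

theorem range_phi (s : Sub N k) : phi.{u} hk s ⁻¹ᵁ stdOpen hk s = ⊤ := by
  rw [phi, stdOpen, plucker_preimage, mnr_univMat, Scheme.basicOpen_of_isUnit _ isUnit_one]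

/-- All charts together. -/
def bigPhi : (∐ fun s : Sub N k => Chart.{u} s) ⟶ PP.{u} N k := Sigma.desc fun s => phi hk s

instance : QuasiCompact (bigPhi.{u} (N := N) hk) :=
  haveI : IsAffine (∐ fun s : Sub N k => Chart.{u} s) := inferInstance
  haveI : IsSeparated (CohB1.ProjSpace.toSpec (plDim N k) ZZ.{u}) :=
    haveI := PnCoh.Chow.isProper_toSpec (plDim N k) ZZ.{u}
    inferInstance
  QuasiCompact.of_comp _ (CohB1.ProjSpace.toSpec (plDim N k) ZZ.{u})

/-- The Grassmannian of rank `k` quotients of a free module of rank `N` over the integers. -/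
def Gr : Scheme.{u} := (bigPhi.{u} (N := N) hk).image

/-- The Plücker embedding. -/
def pl : Gr.{u} hk ⟶ PP.{u} N k := (bigPhi.{u} (N := N) hk).imageι

instance : IsClosedImmersion (pl.{u} hk) :=
  inferInstanceAs (IsClosedImmersion (bigPhi.{u} (N := N) hk).imageι)

/-- A chart as an open subscheme of the Grassmannian. -/
def toGr (s : Sub N k) : Chart.{u} s ⟶ Gr.{u} hk :=
  Sigma.ι (fun s : Sub N k => Chart.{u} s) s ≫ (bigPhi.{u} (N := N) hk).toImage

theorem toGr_pl (s : Sub N k) : toGr hk s ≫ pl.{u} hk = phi hk s := by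
  rw [toGr, pl, Category.assoc, Scheme.Hom.toImage_imageι]
  exact Sigma.ι_desc _ _

/-- The point of the Grassmannian given by a matrix. -/
def gpt (M : Matrix (Fin k) (Fin N) Γ(W, ⊤)) (s : Sub N k) : W ⟶ Gr.{u} hk :=
  chartPt s (normalise M s.em) ≫ toGr hk s

theorem gpt_pl (M : Matrix (Fin k) (Fin N) Γ(W, ⊤)) {s : Sub N k} (hu : IsUnit (mnr M s.em)) :
    gpt hk M s ≫ pl.{u} hk = plucker hk M s hu := by
  rw [gpt, Category.assoc, toGr_pl, chartPt_phi hk s _ (normalise_submatrix M _ hu)]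
  exact plucker_mul hk _ M hu _

theorem gpt_indep (M : Matrix (Fin k) (Fin N) Γ(W, ⊤)) {s t : Sub N k} (hs : IsUnit (mnr M s.em))
    (ht : IsUnit (mnr M t.em)) : gpt hk M s = gpt hk M t := by
  rw [← cancel_mono (pl.{u} hk), gpt_pl hk M hs, gpt_pl hk M ht, plucker_indep]

theorem gpt_mul (G : Matrix (Fin k) (Fin k) Γ(W, ⊤)) (M : Matrix (Fin k) (Fin N) Γ(W, ⊤))
    {s t : Sub N k} (hs : IsUnit (mnr M s.em)) (ht : IsUnit (mnr (G * M) t.em)) :
    gpt hk (G * M) t = gpt hk M s := by
  rw [← cancel_mono (pl.{u} hk), gpt_pl hk _ hs, gpt_pl hk _ ht, plucker_mul]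

theorem comp_gpt (g : W' ⟶ W) (M : Matrix (Fin k) (Fin N) Γ(W, ⊤)) {s : Sub N k}
    (hu : IsUnit (mnr M s.em)) : g ≫ gpt hk M s = gpt hk (M.map g.appTop.hom) s := by
  rw [← cancel_mono (pl.{u} hk), Category.assoc, gpt_pl hk M hu,
    gpt_pl hk _ (by rw [mnr_map]; exact hu.map _), comp_plucker]

theorem gpt_univMat (s : Sub N k) : gpt hk (univMat.{u} s) s = toGr hk s := by
  rw [← cancel_mono (pl.{u} hk), gpt_pl hk _ (isUnit_univMat s), toGr_pl]
  rfl

/-- The open of a chart. -/
def grOpen (s : Sub N k) : (Gr.{u} hk).Opens := pl.{u} hk ⁻¹ᵁ stdOpen hk s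

theorem iSup_grOpen : ⨆ s : Sub N k, grOpen.{u} hk s = ⊤ := by
  simp only [grOpen, ← Scheme.Hom.preimage_iSup, iSup_stdOpen, Scheme.Hom.preimage_top]

theorem toGr_preimage (s : Sub N k) : toGr hk s ⁻¹ᵁ grOpen.{u} hk s = ⊤ := by
  rw [grOpen, ← Scheme.Hom.comp_preimage, toGr_pl, range_phi]

theorem exists_iso_chart (t : Sub N k) :
    ∃ κ : Chart.{u} t ⟶ (grOpen.{u} hk t).toScheme, IsIso κ ∧ κ ≫ (grOpen.{u} hk t).ι = toGr hk t := by
  let V := grOpen.{u} hk t
  have hV : IsAffineOpen V := (isAffineOpen_stdOpen hk t).preimage _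
  haveI : IsAffine V.toScheme := hV
  have hr : Set.range (toGr hk t) ⊆ Set.range V.ι := by
    rintro _ ⟨x, rfl⟩
    rw [Scheme.Opens.range_ι]
    exact (toGr_preimage hk t).ge (trivial : x ∈ (⊤ : (Chart.{u} t).Opens))
  let κ := IsOpenImmersion.lift V.ι (toGr hk t) hr
  have hκ : κ ≫ V.ι = toGr hk t := IsOpenImmersion.lift_fac _ _ hr
  have hw : Set.range (V.ι ≫ pl.{u} hk) ⊆ Set.range (stdι hk t) := by
    rintro _ ⟨x, rfl⟩
    rw [← Scheme.Hom.coe_opensRange, opensRange_stdι]
    exact x.2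
  let w := IsOpenImmersion.lift (stdι hk t) (V.ι ≫ pl.{u} hk) hw
  have hκw : κ ≫ w = psi hk t := by
    rw [← cancel_mono (stdι hk t), Category.assoc, IsOpenImmersion.lift_fac, ← Category.assoc, hκ,
      toGr_pl, psi_stdι]
  haveI : IsClosedImmersion (κ ≫ w) := hκw ▸ inferInstance
  haveI : IsAffineHom w := inferInstance
  haveI : IsClosedImmersion κ := IsClosedImmersion.of_comp κ w
  have : IsIso κ := by
    haveI : IsIso (V.ι.app V) := V.ι.isIso_app V (by rw [Scheme.Opens.opensRange_ι])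
    refine IsClosedImmersion.isIso_of_injective_of_isAffine ?_
    rw [injective_iff_map_eq_zero]
    intro z hz
    obtain ⟨f, rfl⟩ := (ConcreteCategory.bijective_of_isIso (V.ι.app V ≫ V.toScheme.presheaf.map
      (eqToHom V.ι_preimage_self.symm).op)).2 z
    suffices f = 0 by subst this; simp
    have h1 : (toGr hk t).app V f = 0 := by
      rw [Scheme.Hom.congr_app hκ.symm V]
      have h2 : κ.app (V.ι ⁻¹ᵁ V) (V.ι.app V f) = 0 := by
        have h3 : ∀ (A : V.toScheme.Opens) (h : A = ⊤) (a : Γ(V.toScheme, A)),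
            κ.appTop (V.toScheme.presheaf.map (eqToHom h.symm).op a) = 0 → κ.app A a = 0 := by
          rintro A rfl a ha
          simp only [eqToHom_refl, op_id, CategoryTheory.Functor.map_id] at ha
          exact ha
        exact h3 _ V.ι_preimage_self _ (by simpa using hz)
      rw [CommRingCat.comp_apply, Scheme.Hom.comp_app, CommRingCat.comp_apply]
      erw [h2, map_zero]
    apply Scheme.Hom.toImage_app_injective (f := bigPhi.{u} (N := N) hk) ⟨stdOpen hk t, isAffineOpen_stdOpen hk t⟩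
    rw [map_zero]
    refine Scheme.zero_of_zero_cover _ (sigmaOpenCover (fun s : Sub N k => Chart.{u} s)) fun s => ?_
    show ((Sigma.ι (fun s : Sub N k => Chart.{u} s) s).app _) ((bigPhi.{u} (N := N) hk).toImage.app V f) = 0
    rw [← CommRingCat.comp_apply, ← Scheme.Hom.comp_app]
    show (toGr hk s).app V f = 0
    let U := toGr hk s ⁻¹ᵁ V
    have hU : U = (Chart.{u} s).basicOpen (mnr (univMat.{u} s) t.em) := by
      show toGr hk s ⁻¹ᵁ grOpen hk t = _
      rw [grOpen, ← Scheme.Hom.comp_preimage, toGr_pl, phi, stdOpen, plucker_preimage]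
    have hu : IsUnit (mnr ((univMat.{u} s).map U.ι.appTop.hom) t.em) := by
      have h4 : U.toScheme.basicOpen (U.ι.appTop (mnr (univMat.{u} s) t.em)) = ⊤ := by
        rw [← Scheme.preimage_basicOpen_top, ← hU]
        exact U.ι_preimage_self
      rw [mnr_map]
      exact isUnit_of_basicOpen_eq_top h4
    have hfac : U.ι ≫ toGr hk s = chartPt t (normalise ((univMat.{u} s).map U.ι.appTop.hom) t.em) ≫ toGr hk t := by
      rw [← gpt_univMat hk s, comp_gpt hk _ _ (isUnit_univMat s)]
      exact gpt_indep hk _ (by rw [mnr_map]; exact (isUnit_univMat s).map _) hu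
    have h5 : (U.ι ≫ toGr hk s).app V f = 0 := by
      rw [Scheme.Hom.congr_app hfac V]
      simp only [Scheme.Hom.comp_app, CommRingCat.comp_apply, h1, map_zero]
    rw [Scheme.Hom.comp_app] at h5
    haveI : IsIso (U.ι.app U) := U.ι.isIso_app U (by rw [Scheme.Opens.opensRange_ι])
    exact (injective_iff_map_eq_zero _).1 (ConcreteCategory.bijective_of_isIso (U.ι.app U)).1 _ h5
  exact ⟨κ, this, hκ⟩

instance isOpenImmersion_toGr (t : Sub N k) : IsOpenImmersion (toGr.{u} hk t) := by
  obtain ⟨κ, hκ, h⟩ := exists_iso_chart.{u} hk t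
  rw [← h]
  infer_instance

/-- The charts cover. -/
theorem opensRange_toGr (t : Sub N k) : (toGr.{u} hk t).opensRange = grOpen hk t := by
  obtain ⟨κ, hκ, h⟩ := exists_iso_chart.{u} hk t
  simp only [← h, Scheme.Hom.opensRange_comp_of_isIso, Scheme.Opens.opensRange_ι]

/-- The Grassmannian is covered by the charts. -/
theorem exists_mem_chart (x : Gr.{u} hk) : ∃ t : Sub N k, x ∈ Set.range (toGr.{u} hk t) := by
  obtain ⟨t, ht⟩ := TopologicalSpace.Opens.mem_iSup.1
    ((iSup_grOpen hk).ge (trivial : x ∈ (⊤ : (Gr.{u} hk).Opens)))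
  rw [← opensRange_toGr] at ht
  exact ⟨t, ht⟩

end Groth.Agent.Grass47
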