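import Groth.Agent.Lib.CurveEnd
import Groth.Agent.Lib.AVAmple
import Groth.Agent.InvX.GenLocusPull
import Groth.Agent.CurveBC.Coh
import Groth.Agent.H23.Frame

/-!
# Maps of free modules and matrices
-/

set_option autoImplicit false
set_option linter.style.haveILetI false
set_option backward.isDefEq.respectTransparency false
set_option backward.isDefEq.respectTransparency.types false

universe u

open CategoryTheory CategoryTheory.Limits AlgebraicGeometry

noncomputable section

namespace Groth.Agent.Grass47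

open Groth.Agent Groth.Agent.H23.Frame Groth.Agent.CurveEnd

variable {X Y : Scheme.{u}}

local notation "O[" Z "]" => Coh.structureModule Z

/-- Multiplication by functions commutes with all morphisms. -/
theorem smulMod_comm {M N : X.Modules} (φ : M ⟶ N) (c : Γ(X, ⊤)) :
    smulMod M c ≫ φ = φ ≫ smulMod N c := by
  refine Scheme.Modules.hom_ext _ _ fun W => ?_
  ext x
  show φ.app W ((smulMod M c).app W x) = (smulMod N c).app W (φ.app W x)
  rw [smulMod_app, smulMod_app, Scheme.Modules.Hom.app_smul]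

/-- The function of an endomorphism of the structure sheaf. -/
def entry1 (φ : O[X] ⟶ O[X]) : Γ(X, ⊤) := InvX.one φ

theorem smulMod_entry1 (φ : O[X] ⟶ O[X]) : smulMod O[X] (entry1 φ) = φ := by
  refine InvX.hom_ext_of_frames (fun _ : PUnit.{1} => (⊤ : X.Opens)) (fun x => ⟨⟨⟩, trivial⟩)
    (fun _ => (show Γ(O[X], ⊤) from (1 : Γ(X, ⊤)))) (fun _ => InvX.isFrame_one ⊤) fun _ => ?_
  rw [smulMod_app]
  show (X.presheaf.map (homOfLE (le_top : (⊤ : X.Opens) ≤ ⊤)).op (entry1 φ) : Γ(X, ⊤)) *
    (1 : Γ(X, ⊤)) = _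
  rw [mul_one]
  simp [entry1]
  rfl

theorem entry1_smulMod (c : Γ(X, ⊤)) : entry1 (smulMod O[X] c) = c := by
  show (smulMod O[X] c).app ⊤ (show Γ(O[X], ⊤) from (1 : Γ(X, ⊤))) = c
  rw [smulMod_app]
  show (X.presheaf.map (homOfLE (le_top : (⊤ : X.Opens) ≤ ⊤)).op c : Γ(X, ⊤)) * (1 : Γ(X, ⊤)) = c
  simp

variable {N k m : ℕ}

/-- The map of free modules given by a matrix. -/
def matHom (M : Matrix (Fin k) (Fin N) Γ(X, ⊤)) : FlatMod.freeMod X N ⟶ FlatMod.freeMod X k :=
  ∑ a, ∑ i, proj X N i ≫ smulMod O[X] (M a i) ≫ incl X k a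

/-- The matrix of a map of free modules. -/
def homMat (φ : FlatMod.freeMod X N ⟶ FlatMod.freeMod X k) : Matrix (Fin k) (Fin N) Γ(X, ⊤) :=
  Matrix.of fun a i => entry1 (incl X N i ≫ φ ≫ proj X k a)

theorem matHom_homMat (φ : FlatMod.freeMod X N ⟶ FlatMod.freeMod X k) : matHom (homMat φ) = φ := by
  simp only [matHom, homMat, Matrix.of_apply, smulMod_entry1]
  conv_rhs => rw [← Category.id_comp φ, ← total X N, ← Category.comp_id φ, ← total X k]
  simp only [Preadditive.sum_comp, Preadditive.comp_sum, Category.assoc]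

theorem incl_matHom_proj (M : Matrix (Fin k) (Fin N) Γ(X, ⊤)) (a : Fin k) (i : Fin N) :
    incl X N i ≫ matHom M ≫ proj X k a = smulMod O[X] (M a i) := by
  simp only [matHom, Preadditive.sum_comp, Preadditive.comp_sum, Category.assoc, incl_proj]
  rw [Finset.sum_eq_single a, Finset.sum_eq_single i]
  · rw [← Category.assoc (incl X N i), incl_proj, if_pos rfl, if_pos rfl, Category.id_comp, Category.comp_id]
  · intro b _ hb
    rw [← Category.assoc (incl X N i), incl_proj, if_neg (Ne.symm hb), zero_comp]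
  · simp
  · intro b _ hb
    refine Finset.sum_eq_zero fun j _ => ?_
    rw [if_neg hb]
    simp
  · simp

theorem homMat_matHom (M : Matrix (Fin k) (Fin N) Γ(X, ⊤)) : homMat (matHom M) = M := by
  ext a i
  rw [homMat, Matrix.of_apply, incl_matHom_proj, entry1_smulMod]

theorem matHom_injective : Function.Injective (matHom (X := X) (N := N) (k := k)) :=
  Function.LeftInverse.injective homMat_matHom

theorem hom_ext_entries {φ ψ : FlatMod.freeMod X N ⟶ FlatMod.freeMod X k}
    (h : ∀ a i, incl X N i ≫ φ ≫ proj X k a = incl X N i ≫ ψ ≫ proj X k a) : φ = ψ := by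
  rw [← matHom_homMat φ, ← matHom_homMat ψ]
  refine congrArg matHom ?_
  ext a i
  rw [homMat, homMat, Matrix.of_apply, Matrix.of_apply, h]

theorem matHom_comp (M : Matrix (Fin k) (Fin N) Γ(X, ⊤)) (M' : Matrix (Fin m) (Fin k) Γ(X, ⊤)) :
    matHom M ≫ matHom M' = matHom (M' * M) := by
  refine hom_ext_entries fun c i => ?_
  rw [incl_matHom_proj, Matrix.mul_apply]
  have h : matHom M ≫ matHom M' = ∑ b, matHom M ≫ proj X k b ≫ incl X k b ≫ matHom M' := by
    conv_lhs => rw [← Category.comp_id (matHom M), ← total X k]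
    simp only [Preadditive.comp_sum, Preadditive.sum_comp, Category.assoc]
  rw [h]
  simp only [Preadditive.sum_comp, Preadditive.comp_sum, Category.assoc]
  rw [show smulMod O[X] (∑ b, M' c b * M b i) = ∑ b, smulMod O[X] (M' c b * M b i) from
    map_sum (scalar O[X]) _ _]
  refine Finset.sum_congr rfl fun b _ => ?_
  rw [← Category.assoc (matHom M), ← Category.assoc (incl X N i), incl_matHom_proj]
  refine (congrArg (smulMod O[X] (M b i) ≫ ·) (incl_matHom_proj M' c b)).trans ?_
  exact (map_mul (scalar O[X]) (M' c b) (M b i)).symm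

theorem matHom_one : matHom (1 : Matrix (Fin k) (Fin k) Γ(X, ⊤)) = 𝟙 _ := by
  refine hom_ext_entries fun a i => ?_
  rw [incl_matHom_proj, Category.id_comp, incl_proj, Matrix.one_apply]
  by_cases h : a = i
  · rw [if_pos h, if_pos h.symm]
    exact map_one (scalar O[X])
  · rw [if_neg h, if_neg (Ne.symm h)]
    exact map_zero (scalar O[X])

theorem matHom_zero : matHom (0 : Matrix (Fin k) (Fin N) Γ(X, ⊤)) = 0 := by
  refine hom_ext_entries fun a i => ?_
  rw [incl_matHom_proj, Limits.zero_comp, Limits.comp_zero]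
  exact map_zero (scalar O[X])

/-- An invertible matrix gives an isomorphism. -/
theorem isIso_matHom {G : Matrix (Fin k) (Fin k) Γ(X, ⊤)} (h : IsUnit G.det) : IsIso (matHom G) :=
  ⟨matHom G⁻¹, by rw [matHom_comp, Matrix.nonsing_inv_mul _ h, matHom_one],
    by rw [matHom_comp, Matrix.mul_nonsing_inv _ h, matHom_one]⟩

/-- The matrix of an isomorphism is invertible. -/
theorem isUnit_det_of_iso (e : FlatMod.freeMod X k ≅ FlatMod.freeMod X k) : IsUnit (homMat e.hom).det := by
  refine Matrix.isUnit_det_of_right_inverse (B := homMat e.inv) ?_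
  apply matHom_injective
  rw [← matHom_comp, matHom_homMat, matHom_homMat, Iso.inv_hom_id, matHom_one]

variable (u : Y ⟶ X)

/-- Inverse image of a multiplication. -/
theorem pullback_map_smulMod (c : Γ(X, ⊤)) :
    (Scheme.Modules.pullback u).map (smulMod O[X] c) =
      smulMod ((Scheme.Modules.pullback u).obj O[X]) (u.appTop c) := by
  refine InvX.hom_ext_of_frames (fun _ : PUnit.{1} => u ⁻¹ᵁ (⊤ : X.Opens)) (fun y => ⟨⟨⟩, trivial⟩)
    (fun _ => InvX.pullElt u (U := ⊤) (show Γ(O[X], ⊤) from (1 : Γ(X, ⊤))))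
    (fun _ => InvX.isFrame_pullElt u (InvX.isFrame_one ⊤)) fun _ => ?_
  rw [InvX.map_pullElt, smulMod_app, InvX.pullElt_smul, smulMod_app]
  congr 1
  simp [Scheme.Hom.appTop]

/-- The inverse image of the structure sheaf. -/
abbrev unitI : (Scheme.Modules.pullback u).obj O[X] ≅ O[Y] := CurveBC.unitIso u

variable {u} (a₀ : (Scheme.Modules.pullback u).obj O[X] ≅ O[Y])

theorem conj_smulMod (c : Γ(X, ⊤)) :
    a₀.inv ≫ (Scheme.Modules.pullback u).map (smulMod O[X] c) ≫ a₀.hom =
      smulMod O[Y] (u.appTop c) := by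
  rw [pullback_map_smulMod, smulMod_comm, Iso.inv_hom_id_assoc]

/-- The inverse image of a free module. -/
def freeI (N : ℕ) : (Scheme.Modules.pullback u).obj (FlatMod.freeMod X N) ≅ FlatMod.freeMod Y N :=
  PreservesCoproduct.iso (Scheme.Modules.pullback u) (fun _ : Fin N => O[X]) ≪≫
    Sigma.mapIso fun _ => a₀

theorem map_incl_freeI (i : Fin N) :
    (Scheme.Modules.pullback u).map (incl X N i) ≫ (freeI a₀ N).hom = a₀.hom ≫ incl Y N i := by
  simp only [freeI, incl, Iso.trans_hom]
  rw [← ι_comp_sigmaComparison, ← PreservesCoproduct.inv_hom, Category.assoc, Iso.inv_hom_id_assoc]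
  simp [Sigma.mapIso]

theorem freeI_inv_map_proj (a : Fin k) :
    (freeI a₀ k).inv ≫ (Scheme.Modules.pullback u).map (proj X k a) = proj Y k a ≫ a₀.inv := by
  haveI : (Scheme.Modules.pullback u).Additive := Functor.additive_of_preserves_binary_products _
  refine Sigma.hom_ext _ _ fun b => ?_
  have h : incl Y k b ≫ (freeI a₀ k).inv = a₀.inv ≫ (Scheme.Modules.pullback u).map (incl X k b) := by
    rw [Iso.eq_inv_comp, ← Category.assoc, ← map_incl_freeI, Category.assoc, Iso.hom_inv_id, Category.comp_id]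
  rw [← Category.assoc, show Sigma.ι (fun _ : Fin k => O[Y]) b = incl Y k b from rfl, h, Category.assoc,
    ← Functor.map_comp, incl_proj, ← Category.assoc (incl Y k b), incl_proj]
  split_ifs with hb
  · rw [CategoryTheory.Functor.map_id, Category.comp_id, Category.id_comp]
  · rw [Functor.map_zero, Limits.comp_zero, Limits.zero_comp]

/-- Inverse image of a matrix. -/
theorem conj_matHom (M : Matrix (Fin k) (Fin N) Γ(X, ⊤)) :
    (freeI a₀ N).inv ≫ (Scheme.Modules.pullback u).map (matHom M) ≫ (freeI a₀ k).hom =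
      matHom (M.map u.appTop.hom) := by
  refine hom_ext_entries fun a i => ?_
  rw [incl_matHom_proj]
  have h1 : incl Y N i ≫ (freeI a₀ N).inv = a₀.inv ≫ (Scheme.Modules.pullback u).map (incl X N i) := by
    rw [Iso.eq_inv_comp, ← Category.assoc, ← map_incl_freeI, Category.assoc, Iso.hom_inv_id, Category.comp_id]
  have h2 : (freeI a₀ k).hom ≫ proj Y k a = (Scheme.Modules.pullback u).map (proj X k a) ≫ a₀.hom := by
    rw [← Iso.eq_inv_comp, ← Category.assoc, freeI_inv_map_proj, Category.assoc, Iso.inv_hom_id, Category.comp_id]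
  simp only [Category.assoc]
  rw [reassoc_of% h1, h2, ← Functor.map_comp_assoc, ← Functor.map_comp_assoc, Category.assoc, incl_matHom_proj,
    conj_smulMod]
  rfl

end Groth.Agent.Grass47
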