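import Mathlib.LinearAlgebra.Matrix.NonsingularInverse
import Mathlib.LinearAlgebra.Matrix.Determinant.Basic
import Mathlib.Data.Finset.Sort
import Mathlib.Data.Fintype.Powerset

/-!
# Maximal minors of a rectangular matrix
-/

set_option autoImplicit false

universe u v

noncomputable section

namespace Groth.Agent.Grass47

/-- The `k`-element subsets of `Fin N`. -/
abbrev Sub (N k : ℕ) : Type := {s : Finset (Fin N) // s.card = k}

variable {N k : ℕ}

/-- The columns of a subset, in order. -/
def Sub.em (s : Sub N k) : Fin k → Fin N := s.1.orderEmbOfFin s.2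

theorem Sub.em_injective (s : Sub N k) : Function.Injective s.em := (s.1.orderEmbOfFin s.2).injective

theorem Sub.em_mem (s : Sub N k) (j : Fin k) : s.em j ∈ s.1 := s.1.orderEmbOfFin_mem s.2 j

theorem Sub.exists_em (s : Sub N k) {i : Fin N} (hi : i ∈ s.1) : ∃ j, s.em j = i := by
  have : i ∈ Set.range (s.1.orderEmbOfFin s.2) := by
    rw [Finset.range_orderEmbOfFin]
    exact hi
  exact this

variable {R : Type u} [CommRing R]

/-- The minor on the columns `f`. -/
def mnr (M : Matrix (Fin k) (Fin N) R) (f : Fin k → Fin N) : R := (M.submatrix id f).det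

theorem mnr_mul (G : Matrix (Fin k) (Fin k) R) (M : Matrix (Fin k) (Fin N) R) (f : Fin k → Fin N) :
    mnr (G * M) f = G.det * mnr M f := by
  rw [mnr, mnr, ← Matrix.det_mul]
  rfl

theorem mnr_map {S : Type v} [CommRing S] (φ : R →+* S) (M : Matrix (Fin k) (Fin N) R) (f : Fin k → Fin N) :
    mnr (M.map φ) f = φ (mnr M f) := by
  rw [mnr, mnr, RingHom.map_det]
  rfl

/-- The minor on the columns `f` is a multiple of a minor on an ordered subset. -/
theorem exists_mnr_eq (f : Fin k → Fin N) (s₀ : Sub N k) :
    ∃ (c : ℤ) (s : Sub N k), ∀ (S : Type u) [CommRing S] (M : Matrix (Fin k) (Fin N) S),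
      mnr M f = (c : S) * mnr M s.em := by
  classical
  by_cases hf : Function.Injective f
  · let s : Sub N k := ⟨Finset.univ.image f, by rw [Finset.card_image_of_injective _ hf]; simp⟩
    choose σ hσ using fun j => s.exists_em (i := f j) (Finset.mem_image_of_mem f (Finset.mem_univ j))
    have hσi : Function.Injective σ := fun a b h => hf (by rw [← hσ a, ← hσ b, h])
    let e : Equiv.Perm (Fin k) := Equiv.ofBijective σ (Finite.injective_iff_bijective.1 hσi)
    refine ⟨(Equiv.Perm.sign e : ℤ), s, fun S _ M => ?_⟩
    have : M.submatrix id f = (M.submatrix id s.em).submatrix id e := by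
      ext i j
      simp [e, hσ j]
    rw [mnr, mnr, this, Matrix.det_permute']
  · simp only [Function.Injective, not_forall] at hf
    obtain ⟨a, b, hab, hne⟩ := hf
    exact ⟨0, s₀, fun S _ M => by
      rw [Int.cast_zero, zero_mul]
      exact Matrix.det_zero_of_column_eq hne fun i => by simp [hab]⟩

/-- The entries of a matrix normalised on the columns `em` are minors. -/
theorem mnr_update (M : Matrix (Fin k) (Fin N) R) (e : Fin k → Fin N) (he : M.submatrix id e = 1)
    (j : Fin k) (i : Fin N) : mnr M (Function.update e j i) = M j i := by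
  have h : M.submatrix id (Function.update e j i) =
      (1 : Matrix (Fin k) (Fin k) R).updateCol j fun a => M a i := by
    ext a b
    by_cases hb : b = j
    · subst hb
      simp
    · rw [Matrix.updateCol_ne hb, Matrix.submatrix_apply, Function.update_of_ne hb, ← he]
      rfl
  rw [mnr, h, ← Matrix.cramer_apply, Matrix.cramer_one]
  rfl

/-- The minors obtained by replacing one column are linear in that column. -/
theorem mnr_update_eq_sum (M : Matrix (Fin k) (Fin N) R) (e : Fin k → Fin N) (j : Fin k) (i : Fin N) :
    mnr M (Function.update e j i) = ∑ a, (M.submatrix id e).adjugate j a * M a i := by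
  have h : M.submatrix id (Function.update e j i) = (M.submatrix id e).updateCol j fun a => M a i := by
    ext a b
    by_cases hb : b = j
    · subst hb
      simp
    · rw [Matrix.updateCol_ne hb, Matrix.submatrix_apply, Function.update_of_ne hb]
      rfl
  rw [mnr, h, ← Matrix.cramer_apply, Matrix.cramer_eq_adjugate_mulVec]
  rfl

/-- The matrix normalised on the columns of `s`. -/
def normalise (M : Matrix (Fin k) (Fin N) R) (e : Fin k → Fin N) : Matrix (Fin k) (Fin N) R :=
  (M.submatrix id e)⁻¹ * M

theorem normalise_submatrix (M : Matrix (Fin k) (Fin N) R) (e : Fin k → Fin N) (h : IsUnit (mnr M e)) :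
    (normalise M e).submatrix id e = 1 := by
  have : (normalise M e).submatrix id e = (M.submatrix id e)⁻¹ * M.submatrix id e := rfl
  rw [this, Matrix.nonsing_inv_mul _ h]

theorem eq_mul_normalise (M : Matrix (Fin k) (Fin N) R) (e : Fin k → Fin N) (h : IsUnit (mnr M e)) :
    M = M.submatrix id e * normalise M e := by
  rw [normalise, ← Matrix.mul_assoc, Matrix.mul_nonsing_inv _ h, Matrix.one_mul]

/-- Matrices differing by an invertible factor have the same normalisation. -/
theorem eq_of_mul_eq {A B : Matrix (Fin k) (Fin N) R} (e : Fin k → Fin N) (hA : A.submatrix id e = 1)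
    (hB : B.submatrix id e = 1) (G : Matrix (Fin k) (Fin k) R) (h : A = G * B) : A = B := by
  have hG : G = 1 := by
    have h' : A.submatrix id e = G * B.submatrix id e := by rw [h]; rfl
    rw [hA, hB, Matrix.mul_one] at h'
    exact h'.symm
  rw [h, hG, Matrix.one_mul]

end Groth.Agent.Grass47
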