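import Groth.Agent.Grass47.Minor
import Groth.Agent.ProjPt.Poly
import Groth.Agent.ProjPt.Basic

/-!
# The Plücker point of a matrix
-/

set_option autoImplicit false
set_option backward.isDefEq.respectTransparency false
set_option backward.isDefEq.respectTransparency.types false

universe u

open CategoryTheory CategoryTheory.Limits AlgebraicGeometry

attribute [local instance] MvPolynomial.gradedAlgebra

noncomputable section

namespace Groth.Agent.Grass47

/-- The integers in the current universe. -/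
abbrev ZZ : Type u := ULift.{u} ℤ

/-- The unique map from the integers. -/
def zHom (C : Type u) [CommRing C] : ZZ.{u} →+* C := (Int.castRingHom C).comp ULift.ringEquiv.toRingHom

theorem zHom_unique {C : Type u} [CommRing C] (φ : ZZ.{u} →+* C) : φ = zHom C := by
  have h : φ.comp (ULift.ringEquiv : ZZ.{u} ≃+* ℤ).symm.toRingHom = Int.castRingHom C := RingHom.ext_int _ _
  exact RingHom.ext fun x => RingHom.congr_fun h x.down

/-- The dimension of the Plücker space. -/
abbrev plDim (N k : ℕ) : ℕ := N.choose k - 1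

variable {N k : ℕ} (hk : k ≤ N)

include hk in
theorem card_sub : Fintype.card (Sub N k) = plDim N k + 1 := by
  rw [Fintype.card_finset_len, Fintype.card_fin]
  have := Nat.choose_pos hk
  simp only [plDim]
  omega

/-- The numbering of the Plücker coordinates. -/
def eqv : Fin (plDim N k + 1) ≃ Sub N k :=
  (finCongr (card_sub hk).symm).trans (Fintype.equivFin (Sub N k)).symm

/-- The number of a Plücker coordinate. -/
def idx (s : Sub N k) : Fin (plDim N k + 1) := (eqv hk).symm s

variable {W W' : Scheme.{u}}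

/-- The homogeneous coordinates of a matrix. -/
def plHom (M : Matrix (Fin k) (Fin N) Γ(W, ⊤)) : MvPolynomial (Fin (plDim N k + 1)) ZZ.{u} →+* Γ(W, ⊤) :=
  MvPolynomial.eval₂Hom (zHom _) fun i => mnr M (eqv hk i).em

theorem plHom_X (M : Matrix (Fin k) (Fin N) Γ(W, ⊤)) (s : Sub N k) :
    plHom hk M (MvPolynomial.X (idx hk s)) = mnr M s.em := by
  simp [plHom, idx]

/-- The target projective space. -/
abbrev PP (N k : ℕ) : Scheme.{u} := CohB1.ProjSpace (plDim N k) ZZ.{u}

/-- The Plücker point of a matrix with an invertible minor. -/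
def plucker (M : Matrix (Fin k) (Fin N) Γ(W, ⊤)) (s : Sub N k) (hu : IsUnit (mnr M s.em)) : W ⟶ PP.{u} N k :=
  ProjPt.pt (CohB1.polyGrading (plDim N k) ZZ.{u}) (plHom hk M) (ProjPt.X_mem (idx hk s)) one_pos
    (by rw [plHom_X]; exact hu)

theorem plucker_indep (M : Matrix (Fin k) (Fin N) Γ(W, ⊤)) {s t : Sub N k} (hs : IsUnit (mnr M s.em))
    (ht : IsUnit (mnr M t.em)) : plucker hk M s hs = plucker hk M t ht :=
  ProjPt.pt_indep _ _ _ _ _ _ _ _

theorem plucker_congr {M M' : Matrix (Fin k) (Fin N) Γ(W, ⊤)} (h : M = M') {s : Sub N k}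
    (hu : IsUnit (mnr M s.em)) (hu' : IsUnit (mnr M' s.em)) : plucker hk M s hu = plucker hk M' s hu' := by
  subst h; rfl

theorem comp_plucker (g : W' ⟶ W) (M : Matrix (Fin k) (Fin N) Γ(W, ⊤)) {s : Sub N k}
    (hu : IsUnit (mnr M s.em)) :
    g ≫ plucker hk M s hu =
      plucker hk (M.map g.appTop.hom) s (by rw [mnr_map]; exact hu.map _) := by
  rw [plucker, ProjPt.comp_pt]
  refine ProjPt.pt_congr _ _ _ ?_ _ _ _ _
  refine MvPolynomial.ringHom_ext (fun r => ?_) fun i => ?_
  · simp only [RingHom.comp_apply, plHom, MvPolynomial.eval₂Hom_C]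
    exact RingHom.congr_fun (zHom_unique (g.appTop.hom.comp (zHom _))) r
  · simp [plHom, mnr_map]

/-- An invertible factor does not change the point. -/
theorem plucker_mul (G : Matrix (Fin k) (Fin k) Γ(W, ⊤)) (M : Matrix (Fin k) (Fin N) Γ(W, ⊤))
    {s t : Sub N k} (hs : IsUnit (mnr M s.em)) (ht : IsUnit (mnr (G * M) t.em)) :
    plucker hk (G * M) t ht = plucker hk M s hs := by
  refine ProjPt.pt_scale_eval (zHom _) (fun i => mnr M (eqv hk i).em) (fun i => mnr (G * M) (eqv hk i).em)
    G.det (fun i => mnr_mul G M _) (idx hk s) (idx hk t) _ _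

/-- The preimage of a standard open. -/
theorem plucker_preimage (M : Matrix (Fin k) (Fin N) Γ(W, ⊤)) {s : Sub N k} (hu : IsUnit (mnr M s.em))
    (t : Sub N k) :
    plucker hk M s hu ⁻¹ᵁ Proj.basicOpen (CohB1.polyGrading (plDim N k) ZZ.{u}) (MvPolynomial.X (idx hk t)) =
      W.basicOpen (mnr M t.em) := by
  rw [← plHom_X hk M t]
  exact ProjPt.pt_preimage_basicOpen _ _ _ _ _ (ProjPt.X_mem _) one_pos

end Groth.Agent.Grass47
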