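import Groth.Agent.Grass47.MatHom
import Groth.Agent.Grass47.Minor
import Groth.Prelude.Def_GrassD
import Mathlib.LinearAlgebra.Matrix.Rank

/-!
# Quotients of free modules given by matrices
-/

set_option autoImplicit false
set_option linter.style.haveILetI false
set_option backward.isDefEq.respectTransparency false
set_option backward.isDefEq.respectTransparency.types false

universe u

open CategoryTheory CategoryTheory.Limits AlgebraicGeometry

noncomputable section

namespace Groth.Agent.Grass47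

open Groth.Agent Groth.Agent.H23.Frame Groth.Agent.CurveEnd

variable {N k : ℕ}

theorem isUnit_det_of_span {F : Type*} [Field F] (A : Matrix (Fin k) (Fin k) F)
    (h : ∀ c : Fin k → F, Matrix.vecMul c A = 0 → c = 0) : IsUnit A.det := by
  rw [isUnit_iff_ne_zero]
  intro h0
  obtain ⟨c, hc, hc'⟩ := Matrix.exists_vecMul_eq_zero_iff.2 h0
  exact hc (h c hc')

/-- A matrix over a field with independent rows has a nonzero maximal minor. -/
theorem exists_minor_field {F : Type u} [Field F] (M : Matrix (Fin k) (Fin N) F)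
    (h : ∀ c : Fin k → F, Matrix.vecMul c M = 0 → c = 0) : ∃ s : Sub N k, IsUnit (mnr M s.em) := by
  classical
  obtain ⟨b, hb, hspan, hli⟩ := exists_linearIndependent F (Set.range fun i : Fin N => M.col i)
  have htop : Submodule.span F (Set.range fun i : Fin N => M.col i) = ⊤ := by
    refine Submodule.eq_top_of_finrank_eq ?_
    rw [← Matrix.rank_eq_finrank_span_cols, ← Matrix.rank_transpose, Matrix.rank,
      LinearMap.finrank_range_of_inj, Module.finrank_pi]
    rw [← LinearMap.ker_eq_bot, LinearMap.ker_eq_bot']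
    intro c hc
    refine h c ?_
    rwa [Matrix.mulVecLin_apply, Matrix.mulVec_transpose] at hc
  rw [htop] at hspan
  let B : Module.Basis b F (Fin k → F) := Module.Basis.mk hli (by simpa using hspan.ge)
  haveI : Fintype b := FiniteDimensional.fintypeBasisIndex B
  let e : Fin k ≃ b := (Fintype.equivFinOfCardEq (by
    rw [← Module.finrank_eq_card_basis B, Module.finrank_pi, Fintype.card_fin])).symm
  choose f hf using fun j : Fin k => hb (e j).2
  have hfi : Function.Injective f := fun i j hij => e.injective (Subtype.ext (by rw [← hf i, ← hf j, hij]))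
  obtain ⟨c, s, hs⟩ := exists_mnr_eq.{u} f
    (⟨Finset.univ.image f, by rw [Finset.card_image_of_injective _ hfi]; simp⟩ : Sub N k)
  have hu : IsUnit (mnr M f) := by
    refine isUnit_det_of_span _ fun v hv => ?_
    have hzero : ∀ x ∈ Submodule.span F b, v ⬝ᵥ x = 0 := by
      intro x hx
      induction hx using Submodule.span_induction with
      | mem x hx =>
        obtain ⟨j, hj⟩ := e.surjective ⟨x, hx⟩
        have := congrFun hv j
        have h2 : M.col (f j) = x := (hf j).trans (congrArg Subtype.val hj)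
        rw [← h2]
        exact this
      | zero => exact dotProduct_zero v
      | add a b _ _ ha hb => rw [dotProduct_add, ha, hb, add_zero]
      | smul a x _ hx => rw [dotProduct_smul, hx, smul_zero]
    exact dotProduct_eq_zero v fun x => hzero x (hspan.ge trivial)
  rw [hs F M] at hu
  exact ⟨s, isUnit_of_mul_isUnit_right hu⟩

variable {X Y Z : Scheme.{u}}

local notation "O[" Z "]" => Coh.structureModule Z
local notation "free[" Z "," N "]" => FlatMod.freeMod Z N

/-- A matrix with an invertible minor gives an epimorphism. -/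
theorem epi_matHom {M : Matrix (Fin k) (Fin N) Γ(X, ⊤)} {s : Sub N k} (h : IsUnit (mnr M s.em)) :
    Epi (matHom M) := by
  classical
  let P : Matrix (Fin N) (Fin k) Γ(X, ⊤) := Matrix.of fun i j => if i = s.em j then 1 else 0
  have hMP : M * P = M.submatrix id s.em := by
    ext a j
    simp [Matrix.mul_apply, P]
  have h1 : matHom (P * (M.submatrix id s.em)⁻¹) ≫ matHom M = 𝟙 _ := by
    rw [matHom_comp, ← Matrix.mul_assoc, hMP, Matrix.mul_nonsing_inv _ h, matHom_one]
  haveI : Epi (matHom (P * (M.submatrix id s.em)⁻¹) ≫ matHom M) := by rw [h1]; infer_instance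
  exact epi_of_epi (matHom (P * (M.submatrix id s.em)⁻¹)) (matHom M)

theorem epi_pullback (u : Y ⟶ X) {A B : X.Modules} (φ : A ⟶ B) [Epi φ] :
    Epi ((Scheme.Modules.pullback u).map φ) := Grass.epi_pullback_map u φ

/-- Where a surjective matrix has an invertible minor. -/
theorem exists_mem_basicOpen (M : Matrix (Fin k) (Fin N) Γ(X, ⊤)) [Epi (matHom M)] (x : X) :
    ∃ s : Sub N k, x ∈ X.basicOpen (mnr M s.em) := by
  let i := X.fromSpecResidueField x
  let θ := Scheme.ΓSpecIso (X.residueField x)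
  let φ : Γ(X, ⊤) →+* X.residueField x := θ.hom.hom.comp i.appTop.hom
  have hepi : Epi (matHom (M.map i.appTop.hom)) := by
    haveI := epi_pullback i (matHom M)
    rw [← conj_matHom (unitI i)]
    infer_instance
  obtain ⟨s, hs⟩ := exists_minor_field (M.map φ) fun c hc => by
    let c' : Matrix (Fin 1) (Fin k) Γ(Spec (X.residueField x), ⊤) := Matrix.of fun _ a => θ.inv (c a)
    have h0 : c' * M.map i.appTop.hom = 0 := by
      ext r j
      have hj := congrArg θ.inv.hom (congrFun hc j)
      simp only [Matrix.vecMul, dotProduct, map_sum, map_mul, Pi.zero_apply, map_zero] at hj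
      rw [Matrix.mul_apply, Matrix.zero_apply, ← hj]
      refine Finset.sum_congr rfl fun a _ => congrArg (θ.inv.hom (c a) * ·) ?_
      exact (ConcreteCategory.congr_hom θ.hom_inv_id _).symm
    have h1 : matHom c' = 0 := by
      rw [← cancel_epi (matHom (M.map i.appTop.hom)), matHom_comp, h0, matHom_zero, comp_zero]
    rw [← matHom_zero] at h1
    funext a
    have := congrArg θ.hom.hom (congrFun (congrFun (matHom_injective h1) 0) a)
    simpa [c', ← CommRingCat.comp_apply] using this
  refine ⟨s, ?_⟩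
  have hu : IsUnit (i.appTop.hom (mnr M s.em)) := by
    rw [mnr_map] at hs
    have := hs.map θ.inv.hom
    have e : ∀ y, θ.inv.hom (φ y) = i.appTop.hom y := fun y =>
      ConcreteCategory.congr_hom θ.hom_inv_id (i.appTop.hom y)
    rwa [e] at this
  have h2 : i ⁻¹ᵁ X.basicOpen (mnr M s.em) = ⊤ := by
    rw [Scheme.preimage_basicOpen_top]
    exact Scheme.basicOpen_of_isUnit _ hu
  have h3 : (IsLocalRing.closedPoint (X.residueField x) : Spec (X.residueField x)) ∈
      i ⁻¹ᵁ X.basicOpen (mnr M s.em) := by rw [h2]; trivial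
  have h4 : i (IsLocalRing.closedPoint (X.residueField x)) ∈ X.basicOpen (mnr M s.em) := h3
  rwa [Scheme.fromSpecResidueField_apply] at h4

theorem incl_freeI_inv {u : Y ⟶ X} (a₀ : (Scheme.Modules.pullback u).obj O[X] ≅ O[Y]) (i : Fin N) :
    incl Y N i ≫ (freeI a₀ N).inv = a₀.inv ≫ (Scheme.Modules.pullback u).map (incl X N i) := by
  rw [Iso.eq_inv_comp, ← Category.assoc, ← map_incl_freeI, Category.assoc, Iso.hom_inv_id, Category.comp_id]

theorem freeI_change {u : Y ⟶ X} (a b : (Scheme.Modules.pullback u).obj O[X] ≅ O[Y]) :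
    (freeI b N).inv = smulMod free[Y, N] (entry1 (b.inv ≫ a.hom)) ≫ (freeI a N).inv := by
  refine Sigma.hom_ext _ _ fun i => ?_
  show incl Y N i ≫ _ = incl Y N i ≫ _
  rw [← Category.assoc, ← smulMod_comm, Category.assoc, incl_freeI_inv, incl_freeI_inv, smulMod_entry1,
    Category.assoc, Iso.hom_inv_id_assoc]

theorem isIso_smulMod_entry (a : O[X] ≅ O[X]) (A : X.Modules) : IsIso (smulMod A (entry1 a.hom)) := by
  have h : ∀ b : O[X] ≅ O[X], smulMod A (entry1 b.hom) ≫ smulMod A (entry1 b.inv) = 𝟙 A := fun b => by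
    have h1 : smulMod O[X] (entry1 b.inv * entry1 b.hom) = 𝟙 O[X] := by
      refine (map_mul (scalar O[X]) _ _).trans ?_
      show smulMod O[X] (entry1 b.hom) ≫ smulMod O[X] (entry1 b.inv) = _
      rw [smulMod_entry1, smulMod_entry1, Iso.hom_inv_id]
    have h2 : entry1 b.inv * entry1 b.hom = 1 := by
      rw [← entry1_smulMod (entry1 b.inv * entry1 b.hom), h1]
      exact (congrArg entry1 (map_one (scalar O[X]))).symm.trans (entry1_smulMod 1)
    exact ((map_mul (scalar A) _ _).symm.trans (congrArg (scalar A) h2)).trans (map_one (scalar A))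
  exact ⟨smulMod A (entry1 a.inv), h a, h a.symm⟩

/-- The quotient `s` is given over `p` by the matrix `M`. -/
def Repr {L : X.Modules} (s : free[X, N] ⟶ L) (p : Y ⟶ X) (M : Matrix (Fin k) (Fin N) Γ(Y, ⊤)) : Prop :=
  ∃ (a : (Scheme.Modules.pullback p).obj O[X] ≅ O[Y]) (e : (Scheme.Modules.pullback p).obj L ≅ free[Y, k]),
    (freeI a N).inv ≫ (Scheme.Modules.pullback p).map s ≫ e.hom = matHom M

variable {L L' : X.Modules} {s : free[X, N] ⟶ L} {p : Y ⟶ X} {M : Matrix (Fin k) (Fin N) Γ(Y, ⊤)}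

theorem Repr.change (h : Repr s p M) (b : (Scheme.Modules.pullback p).obj O[X] ≅ O[Y]) :
    ∃ e : (Scheme.Modules.pullback p).obj L ≅ free[Y, k],
      (freeI b N).inv ≫ (Scheme.Modules.pullback p).map s ≫ e.hom = matHom M := by
  obtain ⟨a, e, he⟩ := h
  haveI := isIso_smulMod_entry (a.symm ≪≫ b) free[Y, k]
  refine ⟨e ≪≫ asIso (smulMod free[Y, k] (entry1 (a.symm ≪≫ b).hom)), ?_⟩
  rw [freeI_change a b, Iso.trans_hom, asIso_hom, Category.assoc]
  rw [reassoc_of% he]
  rw [← Category.assoc, smulMod_comm, Category.assoc]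
  refine (congrArg (matHom M ≫ ·) ((map_mul (scalar free[Y, k]) _ _).symm.trans ?_)).trans (Category.comp_id _)
  refine (congrArg (scalar free[Y, k]) ?_).trans (map_one (scalar free[Y, k]))
  rw [Iso.trans_hom, Iso.symm_hom]
  have h1 : smulMod O[Y] (entry1 (a.inv ≫ b.hom) * entry1 (b.inv ≫ a.hom)) = 𝟙 O[Y] := by
    refine (map_mul (scalar O[Y]) _ _).trans ?_
    show smulMod O[Y] (entry1 (b.inv ≫ a.hom)) ≫ smulMod O[Y] (entry1 (a.inv ≫ b.hom)) = _
    rw [smulMod_entry1, smulMod_entry1]
    simp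
  rw [← entry1_smulMod (entry1 (a.inv ≫ b.hom) * entry1 (b.inv ≫ a.hom)), h1]
  exact (congrArg entry1 (map_one (scalar O[Y]))).symm.trans (entry1_smulMod 1)

theorem Repr.epi (h : Repr s p M) [Epi s] : Epi (matHom M) := by
  obtain ⟨a, e, he⟩ := h
  haveI := epi_pullback p s
  rw [← he]
  infer_instance

/-- Functoriality. -/
theorem Repr.comp (h : Repr s p M) (r : Z ⟶ Y) : Repr s (r ≫ p) (M.map r.appTop.hom) := by
  obtain ⟨a, e, he⟩ := h
  let c := Scheme.Modules.pullbackComp r p
  let b := unitI r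
  let ab : (Scheme.Modules.pullback (r ≫ p)).obj O[X] ≅ O[Z] :=
    (c.app O[X]).symm ≪≫ (Scheme.Modules.pullback r).mapIso a ≪≫ b
  refine ⟨ab, (c.app L).symm ≪≫ (Scheme.Modules.pullback r).mapIso e ≪≫ freeI b k, ?_⟩
  have hI : (freeI ab N).inv =
      (freeI b N).inv ≫ (Scheme.Modules.pullback r).map (freeI a N).inv ≫ c.hom.app free[X, N] := by
    refine Sigma.hom_ext _ _ fun i => ?_
    show incl Z N i ≫ _ = incl Z N i ≫ _
    rw [incl_freeI_inv, ← Category.assoc (incl Z N i), incl_freeI_inv, Category.assoc,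
      ← Functor.map_comp_assoc, incl_freeI_inv, Functor.map_comp, Category.assoc]
    simp only [ab, Iso.trans_inv, Functor.mapIso_inv, Iso.symm_inv, Category.assoc, Iso.app_hom]
    rw [← c.hom.naturality]
    rfl
  rw [← conj_matHom b, ← he, hI]
  simp only [Iso.trans_hom, Iso.symm_hom, Functor.mapIso_hom, Category.assoc, Iso.app_inv, Functor.map_comp]
  rw [← c.hom.naturality_assoc s, Iso.hom_inv_id_app_assoc]
  rfl

/-- Two matrices of one quotient differ by an invertible factor. -/
theorem Repr.unique [Epi s] {M' : Matrix (Fin k) (Fin N) Γ(Y, ⊤)} (h : Repr s p M) (h' : Repr s p M') :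
    ∃ G : Matrix (Fin k) (Fin k) Γ(Y, ⊤), IsUnit G.det ∧ M' = G * M := by
  obtain ⟨e, he⟩ := h.change (unitI p)
  obtain ⟨e', he'⟩ := h'.change (unitI p)
  refine ⟨homMat (e.symm ≪≫ e').hom, isUnit_det_of_iso _, ?_⟩
  apply matHom_injective
  rw [← matHom_comp, matHom_homMat, ← he, ← he']
  simp

/-- Multiplying by an invertible factor. -/
theorem Repr.mul (h : Repr s p M) {G : Matrix (Fin k) (Fin k) Γ(Y, ⊤)} (hG : IsUnit G.det) :
    Repr s p (G * M) := by
  obtain ⟨a, e, he⟩ := h
  haveI := isIso_matHom hG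
  refine ⟨a, e ≪≫ asIso (matHom G), ?_⟩
  rw [← matHom_comp, ← he]
  simp

/-- Invariance under isomorphism of quotients. -/
theorem Repr.of_iso (h : Repr s p M) {s' : free[X, N] ⟶ L'} (e₀ : L ≅ L') (hs : s ≫ e₀.hom = s') :
    Repr s' p M := by
  obtain ⟨a, e, he⟩ := h
  refine ⟨a, (Scheme.Modules.pullback p).mapIso e₀.symm ≪≫ e, ?_⟩
  rw [← he, ← hs, Functor.map_comp]
  simp [← Functor.map_comp_assoc]

/-- Every locally free quotient is locally given by matrices. -/
theorem exists_repr (hL : FlatMod.IsFinLocFreeOfRank k L) (s : free[X, N] ⟶ L) (x : X) :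
    ∃ (U : X.Opens) (M : Matrix (Fin k) (Fin N) Γ(U.toScheme, ⊤)), x ∈ U ∧ Repr s U.ι M := by
  obtain ⟨U, hx, ⟨e⟩⟩ := hL x
  let e' : (Scheme.Modules.pullback U.ι).obj L ≅ free[U.toScheme, k] :=
    ((Scheme.Modules.restrictFunctorIsoPullback U.ι).app L).symm ≪≫ e
  exact ⟨U, homMat ((freeI (unitI U.ι) N).inv ≫ (Scheme.Modules.pullback U.ι).map s ≫ e'.hom), hx,
    unitI U.ι, e', (matHom_homMat _).symm⟩

/-- A morphism vanishing locally vanishes. -/
theorem eq_zero_of_pullback {ι : Type*} (U : ι → X.Opens) (hU : ∀ x, ∃ i, x ∈ U i) {A B : X.Modules}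
    (φ : A ⟶ B) (h : ∀ i, (Scheme.Modules.pullback (U i).ι).map φ = 0) : φ = 0 := by
  refine Scheme.Modules.hom_ext _ _ fun V => ?_
  ext m
  refine AModX.eq_of_locally _ _ fun x hx => ?_
  obtain ⟨i, hi⟩ := hU x
  refine ⟨V ⊓ U i, inf_le_left, ⟨hx, hi⟩, ?_⟩
  have hr : (Scheme.Modules.restrictFunctor (U i).ι).map φ = 0 := by
    rw [← cancel_mono ((Scheme.Modules.restrictFunctorIsoPullback (U i).ι).hom.app B),
      NatTrans.naturality, h i, comp_zero, zero_comp]
  have hW : (U i).ι ''ᵁ ((U i).ι ⁻¹ᵁ V) = V ⊓ U i := by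
    rw [Scheme.Hom.image_preimage_eq_opensRange_inf, Scheme.Opens.opensRange_ι, inf_comm]
  have h0 : ∀ (W : X.Opens), W = (U i).ι ''ᵁ ((U i).ι ⁻¹ᵁ V) → ∀ y : Γ(A, W), φ.app W y = 0 := by
    rintro W rfl y
    exact congrArg (fun ψ : A.restrict (U i).ι ⟶ B.restrict (U i).ι => ψ.app ((U i).ι ⁻¹ᵁ V) y) hr
  rw [← AModX.app_res, h0 _ hW.symm]
  exact (map_zero _).symm

/-- Quotients with the same matrices are isomorphic. -/
theorem exists_iso_of_repr {s' : free[X, N] ⟶ L'} [Epi s] [Epi s'] {ι : Type*} (U : ι → X.Opens)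
    (hU : ∀ x, ∃ i, x ∈ U i) (M : ∀ i, Matrix (Fin k) (Fin N) Γ((U i).toScheme, ⊤))
    (h : ∀ i, Repr s (U i).ι (M i)) (h' : ∀ i, Repr s' (U i).ι (M i)) : ∃ e : L ≅ L', s ≫ e.hom = s' := by
  have key : ∀ {A B : X.Modules} (t : free[X, N] ⟶ A) (t' : free[X, N] ⟶ B),
      (∀ i, Repr t (U i).ι (M i)) → (∀ i, Repr t' (U i).ι (M i)) → kernel.ι t ≫ t' = 0 := by
    intro A B t t' ht ht'
    refine eq_zero_of_pullback U hU _ fun i => ?_
    obtain ⟨e, he⟩ := (ht i).change (unitI (U i).ι)
    obtain ⟨e', he'⟩ := (ht' i).change (unitI (U i).ι)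
    rw [Iso.inv_comp_eq] at he he'
    rw [Functor.map_comp, ← cancel_mono e'.hom, Category.assoc, he', ← he, zero_comp,
      ← Functor.map_comp_assoc, kernel.condition, Functor.map_zero, zero_comp]
  let f := Abelian.epiDesc s s' (key s s' h h')
  let g := Abelian.epiDesc s' s (key s' s h' h)
  refine ⟨⟨f, g, ?_, ?_⟩, Abelian.comp_epiDesc _ _ _⟩
  · rw [← cancel_epi s, ← Category.assoc, Abelian.comp_epiDesc, Abelian.comp_epiDesc, Category.comp_id]
  · rw [← cancel_epi s', ← Category.assoc, Abelian.comp_epiDesc, Abelian.comp_epiDesc, Category.comp_id]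

end Groth.Agent.Grass47
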