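import Groth.Agent.Grass47.Charts
import Groth.Agent.Grass47.Repr
import Groth.Agent.ProjPt.Sections
import Groth.Agent.ResSurf.TwistPull
import Groth.Agent.KFlatLib.Scheme.FlatDescent

/-!
# The tautological quotient of the Grassmannian
-/

set_option autoImplicit false
set_option linter.style.haveILetI false
set_option backward.isDefEq.respectTransparency false
set_option backward.isDefEq.respectTransparency.types false

universe u

open CategoryTheory CategoryTheory.Limits AlgebraicGeometry HomogeneousLocalization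

attribute [local instance] MvPolynomial.gradedAlgebra

noncomputable section

namespace Groth.Agent.Grass47

open Groth.Agent Groth.Agent.H23.Frame Groth.Agent.CurveEnd

variable {N k : ℕ} (hk : k ≤ N)

local notation "O[" Z "]" => Coh.structureModule Z
local notation "𝒜" => CohB1.polyGrading (plDim N k) ZZ

/-- A morphism out of the structure sheaf given by a frame is an isomorphism. -/
theorem isIso_of_frame {X : Scheme.{u}} {M : X.Modules} (φ : O[X] ⟶ M) (h : InvX.IsFrame (InvX.one φ)) :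
    IsIso φ := by
  refine Scheme.Modules.Hom.isIso_iff_isIso_app.mpr fun V => ?_
  rw [ConcreteCategory.isIso_iff_bijective]
  have e : (fun r : Γ(X, V) => φ.app V (show Γ(O[X], V) from r)) =
      fun r : Γ(X, V) => r • AModX.res M le_top (InvX.one φ) := by
    funext r
    exact (app_eq_smul φ V r).trans (congrArg (r • ·) (app_one_res φ (le_top : V ≤ ⊤)).symm)
  show Function.Bijective fun r : Γ(X, V) => φ.app V (show Γ(O[X], V) from r)
  rw [e]
  exact h V le_top

theorem res_top_injective {X : Scheme.{u}} {M : X.Modules} {W : X.Opens} (hW : W = ⊤) :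
    Function.Injective (AModX.res M (le_top : W ≤ ⊤)) := by
  subst hW
  intro a b h
  simpa only [AModX.res_self] using h

theorem isFrame_of_res_top {X : Scheme.{u}} {M : X.Modules} {W : X.Opens} (hW : W = ⊤) {e : Γ(M, ⊤)}
    (h : InvX.IsFrame (AModX.res M (le_top : W ≤ ⊤) e)) : InvX.IsFrame e := by
  subst hW
  simpa only [AModX.res_self] using h

/-- The coordinate as a form. -/
def crdForm (u : Sub N k) : MvPolynomial (Fin (plDim N k + 1)) ZZ.{u} := MvPolynomial.X (idx hk u)

theorem crdForm_mem (u : Sub N k) : crdForm.{u} hk u ∈ CohB1.polyGrading (plDim N k) ZZ.{u} 1 :=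
  ProjPt.X_mem _

/-- The line bundle of the Plücker embedding. -/
abbrev plL : (Gr.{u} hk).Modules :=
  (Scheme.Modules.pullback (pl.{u} hk)).obj (Twist.twist (CohB1.polyGrading (plDim N k) ZZ.{u}) ((1 : ℕ) : ℤ))

/-- The Plücker sections. -/
def plSec (u : Sub N k) : Γ(plL.{u} hk, ⊤) :=
  InvX.pullElt (pl.{u} hk) (U := ⊤) (Twist.globalOf (CohB1.polyGrading (plDim N k) ZZ.{u}) ⟨crdForm hk u, crdForm_mem hk u⟩)

/-- The pullback of a section to a chart. -/
def chartSec (s u : Sub N k) : Γ((Scheme.Modules.pullback (toGr.{u} hk s)).obj (plL.{u} hk), ⊤) :=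
  InvX.pullElt (toGr.{u} hk s) (U := ⊤) (plSec hk u)

theorem chartSec_eq (s u : Sub N k) :
    chartSec.{u} hk s u = mnr (univMat.{u} s) u.em • chartSec hk s s := by
  let j := toGr.{u} hk s
  have hW : j ⁻¹ᵁ (pl.{u} hk ⁻¹ᵁ stdOpen hk s) = ⊤ := toGr_preimage hk s
  refine res_top_injective hW ?_
  have h1 : AModX.res (plL.{u} hk) (le_top : (pl.{u} hk ⁻¹ᵁ stdOpen hk s) ≤ ⊤) (plSec hk u) =
      (pl.{u} hk).app (stdOpen hk s) (ResSurf.degOneFrac _ (crdForm_mem hk s) (crdForm_mem hk u)) •
        AModX.res (plL.{u} hk) (le_top : (pl.{u} hk ⁻¹ᵁ stdOpen hk s) ≤ ⊤) (plSec hk s) := by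
    refine (InvX.res_pullElt (pl.{u} hk) (le_top : stdOpen hk s ≤ ⊤) _).trans ?_
    refine (congrArg (InvX.pullElt (pl.{u} hk) (U := stdOpen hk s)) (ResSurf.res_globalOf_eq (CohB1.polyGrading (plDim N k) ZZ.{u}) (crdForm_mem hk s) (crdForm_mem hk u))).trans ?_
    refine (InvX.pullElt_smul (pl.{u} hk) _ _).trans ?_
    exact congrArg _ (InvX.res_pullElt (pl.{u} hk) (le_top : stdOpen hk s ≤ ⊤) _).symm
  refine (InvX.res_pullElt j (le_top : (pl.{u} hk ⁻¹ᵁ stdOpen hk s) ≤ ⊤) (plSec hk u)).trans ?_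
  rw [h1, InvX.pullElt_smul, AModX.res_smul]
  refine congrArg₂ (· • ·) ?_ (InvX.res_pullElt j (le_top : (pl.{u} hk ⁻¹ᵁ stdOpen hk s) ≤ ⊤) (plSec hk s)).symm
  have key : ∀ (φ : Chart.{u} s ⟶ PP.{u} N k), φ = phi hk s → ∀ (e : φ ⁻¹ᵁ stdOpen hk s = ⊤),
      φ.app (stdOpen hk s) (ResSurf.degOneFrac _ (crdForm_mem hk s) (crdForm_mem hk u)) =
        AModX.resR (le_top : φ ⁻¹ᵁ stdOpen hk s ≤ ⊤) (mnr (univMat.{u} s) u.em) := by
    rintro φ rfl e
    have h2 := ProjPt.pt_appLE (CohB1.polyGrading (plDim N k) ZZ.{u}) (plHom hk (univMat.{u} s))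
      (ProjPt.X_mem (idx hk s)) one_pos (by rw [plHom_X]; exact isUnit_univMat s) e.ge
      (Away.mk (CohB1.polyGrading (plDim N k) ZZ.{u}) (crdForm_mem hk s) 1 (crdForm hk u)
        (by simpa using crdForm_mem hk u))
    have h3 : ProjPt.coordHom (CohB1.polyGrading (plDim N k) ZZ.{u}) (t := MvPolynomial.X (idx hk s))
        (plHom hk (univMat.{u} s)) (by rw [plHom_X]; exact isUnit_univMat s)
        (Away.mk (CohB1.polyGrading (plDim N k) ZZ.{u}) (crdForm_mem hk s) 1 (crdForm hk u)
          (by simpa using crdForm_mem hk u)) = mnr (univMat.{u} s) u.em := by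
      refine (ProjPt.coordHom_crd _ (idx hk s) _ ?_ (idx hk u)).trans (plHom_X hk _ u)
      rw [plHom_X, mnr_univMat]
    rw [h3] at h2
    rw [← h2]
    show _ = AModX.resR _ (((phi.{u} hk s).app (stdOpen hk s) ≫
      (Chart.{u} s).presheaf.map (homOfLE e.ge).op) _)
    simp only [AModX.resR, ← CommRingCat.comp_apply, Category.assoc, ← Functor.map_comp]
    simp [ResSurf.degOneFrac]
    rfl
  exact key (j ≫ pl.{u} hk) (toGr_pl hk s) (by rw [toGr_pl]; exact range_phi hk s)

theorem isFrame_chartSec (s : Sub N k) : InvX.IsFrame (chartSec.{u} hk s s) := by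
  let j := toGr.{u} hk s
  refine isFrame_of_res_top (toGr_preimage hk s) ?_
  have h1 : AModX.res (plL.{u} hk) (le_top : (pl.{u} hk ⁻¹ᵁ stdOpen hk s) ≤ ⊤) (plSec hk s) =
      InvX.pullElt (pl.{u} hk) (AModX.res _ (le_top : stdOpen hk s ≤ ⊤)
        (Twist.globalOf (CohB1.polyGrading (plDim N k) ZZ.{u}) ⟨crdForm hk s, crdForm_mem hk s⟩)) :=
    InvX.res_pullElt (pl.{u} hk) (le_top : stdOpen hk s ≤ ⊤) _
  have h0 : AModX.res _ (le_top : j ⁻¹ᵁ (pl.{u} hk ⁻¹ᵁ stdOpen hk s) ≤ ⊤) (chartSec hk s s) = _ :=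
    (InvX.res_pullElt j (le_top : (pl.{u} hk ⁻¹ᵁ stdOpen hk s) ≤ ⊤) (plSec hk s)).trans
      (congrArg (InvX.pullElt j (U := pl.{u} hk ⁻¹ᵁ stdOpen hk s)) h1)
  refine Eq.mpr (congrArg InvX.IsFrame h0) ?_
  exact InvX.isFrame_pullElt j (InvX.isFrame_pullElt (pl.{u} hk)
    (TwistX.isFrame_res_globalOf (crdForm_mem hk s) fun y => y.2))

/-- A section as a morphism on a chart. -/
def chartHom (s u : Sub N k) : O[Chart.{u} s] ⟶ (Scheme.Modules.pullback (toGr.{u} hk s)).obj (plL.{u} hk) :=
  (unitI (toGr.{u} hk s)).inv ≫ (Scheme.Modules.pullback (toGr.{u} hk s)).map (InvX.ofSect (plSec hk u))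

theorem exists_unit_chartHom (s : Sub N k) :
    ∃ c : Γ(Chart.{u} s, ⊤), IsUnit c ∧ ∀ u, InvX.one (chartHom hk s u) = c • chartSec hk s u := by
  let j := toGr.{u} hk s
  let p : Γ((Scheme.Modules.pullback j).obj O[Gr.{u} hk], ⊤) :=
    InvX.pullElt j (U := ⊤) (show Γ(O[Gr.{u} hk], ⊤) from (1 : Γ(Gr.{u} hk, ⊤)))
  have hp : InvX.IsFrame p := InvX.isFrame_pullElt j (InvX.isFrame_one ⊤)
  have hw : InvX.IsFrame ((unitI j).inv.app ⊤ (show Γ(O[Chart.{u} s], ⊤) from (1 : Γ(Chart.{u} s, ⊤)))) :=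
    (InvX.isFrame_one ⊤).map_iso (unitI j).symm
  obtain ⟨c, hc⟩ := hp.exists_coord le_rfl
    ((unitI j).inv.app ⊤ (show Γ(O[Chart.{u} s], ⊤) from (1 : Γ(Chart.{u} s, ⊤))))
  obtain ⟨d, hd⟩ := hw.exists_coord le_rfl p
  rw [AModX.res_self] at hc hd
  refine ⟨c, IsUnit.of_mul_eq_one d (hp.coord_unique le_rfl (by
    rw [one_smul, AModX.res_self, mul_comm, mul_smul, ← hc, ← hd])), fun u => ?_⟩
  show ((Scheme.Modules.pullback j).map (InvX.ofSect (plSec hk u))).app ⊤
    ((unitI j).inv.app ⊤ (show Γ(O[Chart.{u} s], ⊤) from (1 : Γ(Chart.{u} s, ⊤)))) = _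
  rw [hc, Scheme.Modules.Hom.app_smul]
  refine congrArg (c • ·) ((InvX.map_pullElt j (InvX.ofSect (plSec hk u)) (U := ⊤) _).trans ?_)
  exact congrArg (InvX.pullElt j (U := ⊤)) (InvX.one_ofSect _)

theorem isIso_chartHom (s : Sub N k) : IsIso (chartHom.{u} hk s s) := by
  obtain ⟨c, hc, h⟩ := exists_unit_chartHom.{u} hk s
  refine isIso_of_frame _ ?_
  rw [h]
  exact (isFrame_chartSec hk s).isUnit_smul hc

theorem chartHom_eq (s u : Sub N k) :
    chartHom.{u} hk s u = smulMod O[Chart.{u} s] (mnr (univMat.{u} s) u.em) ≫ chartHom hk s s := by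
  obtain ⟨c, hc, h⟩ := exists_unit_chartHom.{u} hk s
  rw [smulMod_comm]
  refine ((AVAmple.ofSect_one _).symm.trans (congrArg InvX.ofSect ?_)).trans (AVAmple.ofSect_one _)
  rw [h, chartSec_eq, smul_comm, ← h]
  show _ = (smulMod _ (mnr (univMat.{u} s) u.em)).app ⊤ (InvX.one (chartHom hk s s))
  rw [smulMod_app]
  simp

/-- The chosen multiple of a Plücker coordinate for a replaced column. -/
def updC (p : Sub N k × Fin k) (i : Fin N) : ℤ :=
  (exists_mnr_eq.{u} (Function.update p.1.em p.2 i) p.1).choose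

/-- The chosen Plücker coordinate for a replaced column. -/
def updS (p : Sub N k × Fin k) (i : Fin N) : Sub N k :=
  (exists_mnr_eq.{u} (Function.update p.1.em p.2 i) p.1).choose_spec.choose

theorem upd_spec (p : Sub N k × Fin k) (i : Fin N) {R : Type u} [CommRing R] (M : Matrix (Fin k) (Fin N) R) :
    mnr M (Function.update p.1.em p.2 i) = (updC.{u} p i : R) * mnr M (updS.{u} p i).em :=
  (exists_mnr_eq.{u} (Function.update p.1.em p.2 i) p.1).choose_spec.choose_spec R M

/-- A component of the contraction map. -/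
def contrC (p : Sub N k × Fin k) : FlatMod.freeMod (Gr.{u} hk) N ⟶ plL.{u} hk :=
  Sigma.desc fun i => updC.{u} p i • InvX.ofSect (plSec hk (updS.{u} p i))

/-- The contraction map. -/
def contr : FlatMod.freeMod (Gr.{u} hk) N ⟶ ∏ᶜ fun _ : Sub N k × Fin k => plL.{u} hk :=
  Pi.lift (contrC hk)

/-- The tautological quotient module. -/
def tautQ : (Gr.{u} hk).Modules := Limits.image (contr.{u} hk)

/-- The tautological quotient map. -/
def tautq : FlatMod.freeMod (Gr.{u} hk) N ⟶ tautQ.{u} hk := factorThruImage (contr.{u} hk)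

instance : Epi (tautq.{u} hk) := inferInstanceAs (Epi (factorThruImage _))

theorem contrC_chart (s : Sub N k) (p : Sub N k × Fin k) :
    (freeI (unitI (toGr.{u} hk s)) N).inv ≫ (Scheme.Modules.pullback (toGr.{u} hk s)).map (contrC hk p) =
      matHom (univMat.{u} s) ≫
        Sigma.desc fun a => smulMod O[Chart.{u} s] (((univMat.{u} s).submatrix id p.1.em).adjugate p.2 a) ≫
          chartHom hk s s := by
  haveI : (Scheme.Modules.pullback (toGr.{u} hk s)).Additive := Functor.additive_of_preserves_binary_products _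
  refine Sigma.hom_ext _ _ fun i => ?_
  show incl (Chart.{u} s) N i ≫ _ = incl (Chart.{u} s) N i ≫ _
  rw [← Category.assoc, incl_freeI_inv, Category.assoc, ← Functor.map_comp]
  have h1 : incl (Gr.{u} hk) N i ≫ contrC hk p = updC.{u} p i • InvX.ofSect (plSec hk (updS.{u} p i)) :=
    Sigma.ι_desc _ _
  rw [h1, Functor.map_zsmul, Preadditive.comp_zsmul]
  show updC.{u} p i • chartHom hk s (updS.{u} p i) = _
  rw [chartHom_eq, ← Preadditive.zsmul_comp]
  have h2 : updC.{u} p i • smulMod O[Chart.{u} s] (mnr (univMat.{u} s) (updS.{u} p i).em) =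
      smulMod O[Chart.{u} s] (mnr (univMat.{u} s) (Function.update p.1.em p.2 i)) := by
    rw [upd_spec, ← zsmul_eq_mul]
    exact (map_zsmul (scalar O[Chart.{u} s]) _ _).symm
  rw [h2, mnr_update_eq_sum, show smulMod O[Chart.{u} s] (∑ a, _) = ∑ a, smulMod O[Chart.{u} s] _ from
    map_sum (scalar O[Chart.{u} s]) _ _, Preadditive.sum_comp]
  have h3 : matHom (univMat.{u} s) = ∑ a, matHom (univMat.{u} s) ≫ proj (Chart.{u} s) k a ≫ incl (Chart.{u} s) k a := by
    conv_lhs => rw [← Category.comp_id (matHom (univMat.{u} s)), ← total (Chart.{u} s) k]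
    simp only [Preadditive.comp_sum]
  conv_rhs => rw [h3]
  simp only [Preadditive.sum_comp, Preadditive.comp_sum, Category.assoc]
  refine Finset.sum_congr rfl fun a _ => ?_
  rw [← Category.assoc (matHom (univMat.{u} s)), ← Category.assoc (incl (Chart.{u} s) N i), incl_matHom_proj]
  show _ = _ ≫ Sigma.ι (fun _ : Fin k => O[Chart.{u} s]) a ≫ Sigma.desc _
  rw [Sigma.ι_desc, ← Category.assoc]
  refine congrArg (· ≫ chartHom hk s s) ?_
  exact (map_mul (scalar O[Chart.{u} s]) _ _)

/-- The tautological quotient is given on a chart by its matrix. -/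
theorem repr_tautq (s : Sub N k) : Repr (tautq.{u} hk) (toGr.{u} hk s) (univMat.{u} s) := by
  let j := toGr.{u} hk s
  haveI : (Scheme.Modules.pullback j).Additive := Functor.additive_of_preserves_binary_products _
  haveI : Flat j := inferInstance
  haveI := KFlatLib.preservesHomology_pullback j
  haveI : PreservesFiniteLimits (Scheme.Modules.pullback j) :=
    (Scheme.Modules.pullback j).preservesFiniteLimits_of_preservesHomology
  haveI := isIso_chartHom.{u} hk s
  haveI := epi_matHom (isUnit_univMat.{u} s)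
  let g := (freeI (unitI j) N).inv ≫ (Scheme.Modules.pullback j).map (tautq.{u} hk)
  haveI := epi_pullback j (tautq.{u} hk)
  let ι := (Scheme.Modules.pullback j).map (Limits.image.ι (contr.{u} hk))
  have hg : ∀ p, g ≫ ι ≫ (Scheme.Modules.pullback j).map (Pi.π _ p) =
      matHom (univMat.{u} s) ≫ Sigma.desc fun a => smulMod O[Chart.{u} s]
        (((univMat.{u} s).submatrix id p.1.em).adjugate p.2 a) ≫ chartHom hk s s := fun p => by
    rw [← contrC_chart, ← Functor.map_comp]
    simp only [g, Category.assoc, ← Functor.map_comp]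
    congr 2
    rw [← Category.assoc, tautq, Limits.image.fac, contr, Pi.lift_π]
  have h1 : kernel.ι (matHom (univMat.{u} s)) ≫ g = 0 := by
    rw [← cancel_mono ι, zero_comp]
    refine (isLimitOfHasProductOfPreservesLimit (Scheme.Modules.pullback j) _).hom_ext fun ⟨p⟩ => ?_
    show (_ ≫ ι) ≫ (Scheme.Modules.pullback j).map (Pi.π _ p) = 0 ≫ _
    rw [zero_comp, Category.assoc, Category.assoc, hg, kernel.condition_assoc, zero_comp]
  have h2 : kernel.ι g ≫ matHom (univMat.{u} s) = 0 := by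
    have hz : ∀ b, kernel.ι g ≫ matHom (univMat.{u} s) ≫ proj (Chart.{u} s) k b = 0 := fun b => by
      rw [← cancel_mono (chartHom hk s s), zero_comp]
      have h := congrArg (kernel.ι g ≫ ·) (hg (s, b))
      simp only [kernel.condition_assoc, zero_comp] at h
      rw [h, Category.assoc, Category.assoc]
      congr 2
      refine Sigma.hom_ext _ _ fun a => ?_
      rw [Sigma.ι_desc, univMat_submatrix, Matrix.adjugate_one, ← Category.assoc]
      show (incl (Chart.{u} s) k a ≫ proj (Chart.{u} s) k b) ≫ _ = _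
      rw [incl_proj, Matrix.one_apply]
      by_cases hab : a = b
      · rw [if_pos hab, if_pos hab.symm]
        exact congrArg (· ≫ _) (map_one (scalar O[Chart.{u} s])).symm
      · rw [if_neg hab, if_neg (Ne.symm hab)]
        exact congrArg (· ≫ _) (map_zero (scalar O[Chart.{u} s])).symm
    rw [← Category.comp_id (matHom (univMat.{u} s)), ← total (Chart.{u} s) k]
    simp only [Preadditive.comp_sum]
    refine Finset.sum_eq_zero fun b _ => ?_
    rw [← Category.assoc (matHom (univMat.{u} s)), ← Category.assoc (kernel.ι g), hz, zero_comp]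
  let e : (Scheme.Modules.pullback j).obj (tautQ.{u} hk) ≅ FlatMod.freeMod (Chart.{u} s) k :=
    { hom := Abelian.epiDesc g (matHom (univMat.{u} s)) h2
      inv := Abelian.epiDesc (matHom (univMat.{u} s)) g h1
      hom_inv_id := by rw [← cancel_epi g, ← Category.assoc, Abelian.comp_epiDesc, Abelian.comp_epiDesc, Category.comp_id]
      inv_hom_id := by
        rw [← cancel_epi (matHom (univMat.{u} s)), ← Category.assoc, Abelian.comp_epiDesc, Abelian.comp_epiDesc,
          Category.comp_id] }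
  exact ⟨unitI j, e, (Category.assoc _ _ _).symm.trans (Abelian.comp_epiDesc g (matHom (univMat.{u} s)) h2)⟩

/-- The tautological quotient is locally free of rank `k`. -/
theorem rank_tautQ : FlatMod.IsFinLocFreeOfRank k (tautQ.{u} hk) := fun x => by
  obtain ⟨s, hs⟩ := exists_mem_chart.{u} hk x
  obtain ⟨κ, hκ, h⟩ := exists_iso_chart.{u} hk s
  have hr := (repr_tautq hk s).comp (inv κ)
  rw [← h, IsIso.inv_hom_id_assoc] at hr
  obtain ⟨a, e, -⟩ := hr
  refine ⟨grOpen hk s, ?_, ⟨(Scheme.Modules.restrictFunctorIsoPullback _).app _ ≪≫ e⟩⟩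
  rw [← opensRange_toGr]
  exact hs

end Groth.Agent.Grass47
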