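import Groth.Agent.Grass47.Taut

/-!
# The universal property of the Grassmannian
-/

set_option autoImplicit false
set_option linter.style.haveILetI false
set_option backward.isDefEq.respectTransparency false
set_option backward.isDefEq.respectTransparency.types false

universe u

open CategoryTheory CategoryTheory.Limits AlgebraicGeometry

attribute [local instance] MvPolynomial.gradedAlgebra

noncomputable section

namespace Groth.Agent.Grass47

open Groth.Agent Groth.Agent.H23.Frame Groth.Agent.CurveEnd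

variable {N k : ℕ}

local notation "O[" Z "]" => Coh.structureModule Z
local notation "free[" Z "," N "]" => FlatMod.freeMod Z N

section Comp

variable {X Y Z : Scheme.{u}}

/-- The inverse image of a quotient of a free module. -/
def pullq (h : Y ⟶ X) {L : X.Modules} (q : free[X, N] ⟶ L) :
    free[Y, N] ⟶ (Scheme.Modules.pullback h).obj L :=
  (freeI (unitI h) N).inv ≫ (Scheme.Modules.pullback h).map q

instance (h : Y ⟶ X) {L : X.Modules} (q : free[X, N] ⟶ L) [Epi q] : Epi (pullq h q) :=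
  haveI := epi_pullback h q
  epi_comp _ _

/-- The composite of two unit isomorphisms. -/
def unitC (p : Z ⟶ Y) (h : Y ⟶ X) : (Scheme.Modules.pullback (p ≫ h)).obj O[X] ≅ O[Z] :=
  ((Scheme.Modules.pullbackComp p h).app O[X]).symm ≪≫ (Scheme.Modules.pullback p).mapIso (unitI h) ≪≫ unitI p

theorem freeI_unitC (p : Z ⟶ Y) (h : Y ⟶ X) :
    (freeI (unitC p h) N).inv = (freeI (unitI p) N).inv ≫
      (Scheme.Modules.pullback p).map (freeI (unitI h) N).inv ≫
        (Scheme.Modules.pullbackComp p h).hom.app free[X, N] := by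
  refine Sigma.hom_ext _ _ fun i => ?_
  show incl Z N i ≫ _ = incl Z N i ≫ _
  rw [incl_freeI_inv, ← Category.assoc (incl Z N i), incl_freeI_inv, Category.assoc,
    ← Functor.map_comp_assoc, incl_freeI_inv, Functor.map_comp, Category.assoc]
  simp only [unitC, Iso.trans_inv, Functor.mapIso_inv, Iso.symm_inv, Category.assoc, Iso.app_hom]
  rw [← (Scheme.Modules.pullbackComp p h).hom.naturality]
  rfl

theorem repr_pullq_iff {L : X.Modules} {q : free[X, N] ⟶ L} {p : Z ⟶ Y} {h : Y ⟶ X}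
    {M : Matrix (Fin k) (Fin N) Γ(Z, ⊤)} : Repr (pullq h q) p M ↔ Repr q (p ≫ h) M := by
  have key : (freeI (unitC p h) N).inv ≫ (Scheme.Modules.pullback (p ≫ h)).map q =
      ((freeI (unitI p) N).inv ≫ (Scheme.Modules.pullback p).map (pullq h q)) ≫
        (Scheme.Modules.pullbackComp p h).hom.app L := by
    rw [freeI_unitC, pullq]
    simp only [Category.assoc, Functor.map_comp]
    rw [← (Scheme.Modules.pullbackComp p h).hom.naturality q]
    rfl
  constructor
  · intro hr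
    obtain ⟨e, he⟩ := hr.change (unitI p)
    refine ⟨unitC p h, ((Scheme.Modules.pullbackComp p h).app L).symm ≪≫ e, ?_⟩
    rw [← Category.assoc, key, ← he]
    simp
  · intro hr
    obtain ⟨e, he⟩ := hr.change (unitC p h)
    refine ⟨unitI p, (Scheme.Modules.pullbackComp p h).app L ≪≫ e, ?_⟩
    rw [← he, ← Category.assoc ((freeI (unitC p h) N).inv), key]
    simp

theorem repr_congr {L : X.Modules} {s : free[X, N] ⟶ L} {p p' : Y ⟶ X} (hp : p = p')
    {M : Matrix (Fin k) (Fin N) Γ(Y, ⊤)} (h : Repr s p M) : Repr s p' M := hp ▸ h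

/-- The restriction of a quotient to a small open has an invertible minor. -/
theorem exists_repr_unit {L : X.Modules} (hL : FlatMod.IsFinLocFreeOfRank k L) (s : free[X, N] ⟶ L) [Epi s]
    (x : X) : ∃ (U : X.Opens) (M : Matrix (Fin k) (Fin N) Γ(U.toScheme, ⊤)) (t : Sub N k),
      x ∈ U ∧ Repr s U.ι M ∧ IsUnit (mnr M t.em) := by
  obtain ⟨U, M, hx, hr⟩ := exists_repr hL s x
  haveI := hr.epi
  obtain ⟨t, ht⟩ := exists_mem_basicOpen M ⟨x, hx⟩
  let V : X.Opens := U.ι ''ᵁ U.toScheme.basicOpen (mnr M t.em)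
  have hVU : V ≤ U := U.ι_image_le _
  let r := X.homOfLE hVU
  refine ⟨V, M.map r.appTop.hom, t, ⟨⟨x, hx⟩, ht, rfl⟩, repr_congr (X.homOfLE_ι hVU) (hr.comp r), ?_⟩
  rw [mnr_map]
  refine isUnit_of_basicOpen_eq_top ?_
  rw [← Scheme.preimage_basicOpen_top]
  refine top_le_iff.1 fun y _ => ?_
  obtain ⟨z, hz, hzy⟩ := y.2
  have h1 : (r y).1 = y.1 := by
    show U.ι (r y) = V.ι y
    rw [← Scheme.Hom.comp_apply, X.homOfLE_ι]
  have h2 : r y = z := Subtype.ext (h1.trans hzy.symm)
  show r y ∈ U.toScheme.basicOpen (mnr M t.em)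
  rw [h2]
  exact hz

end Comp

variable (hk : k ≤ N)

theorem repr_gpt {W : Scheme.{u}} (M : Matrix (Fin k) (Fin N) Γ(W, ⊤)) {t : Sub N k}
    (hu : IsUnit (mnr M t.em)) : Repr (tautq.{u} hk) (gpt hk M t) M := by
  have h := (repr_tautq.{u} hk t).comp (chartPt t (normalise M t.em))
  rw [univMat_map_chartPt t _ (normalise_submatrix M _ hu)] at h
  have h2 := h.mul (G := M.submatrix id t.em) hu
  rwa [← eq_mul_normalise M _ hu] at h2

variable {T : Scheme.{u}} {L : T.Modules}

/-- The morphism `h` classifies the quotient `s`. -/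
def Classifies (s : free[T, N] ⟶ L) (h : T ⟶ Gr.{u} hk) : Prop :=
  ∃ e : (Scheme.Modules.pullback h).obj (tautQ.{u} hk) ≅ L, pullq h (tautq hk) ≫ e.hom = s

theorem Classifies.comp_eq {s : free[T, N] ⟶ L} [Epi s] {h : T ⟶ Gr.{u} hk} (hc : Classifies hk s h)
    {W : Scheme.{u}} (p : W ⟶ T) {M : Matrix (Fin k) (Fin N) Γ(W, ⊤)} (hM : Repr s p M) {t : Sub N k}
    (hu : IsUnit (mnr M t.em)) : p ≫ h = gpt hk M t := by
  obtain ⟨e, he⟩ := hc
  let 𝒰 := ((Gr.{u} hk).openCoverOfIsOpenCover _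
    (TopologicalSpace.IsOpenCover.mk (iSup_grOpen hk))).pullback₁ (p ≫ h)
  refine Scheme.Cover.hom_ext 𝒰 _ _ fun t' => ?_
  obtain ⟨κ, hκ, hκ'⟩ := exists_iso_chart.{u} hk t'
  let a := pullback.fst (p ≫ h) (grOpen.{u} hk t').ι
  let r := pullback.snd (p ≫ h) (grOpen.{u} hk t').ι ≫ inv κ
  have hr : r ≫ toGr hk t' = a ≫ p ≫ h := by
    rw [← hκ', Category.assoc, IsIso.inv_hom_id_assoc]
    exact pullback.condition.symm
  have h1 : Repr (tautq.{u} hk) ((a ≫ p) ≫ h) ((univMat.{u} t').map r.appTop.hom) :=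
    repr_congr (hr.trans (Category.assoc _ _ _).symm) ((repr_tautq.{u} hk t').comp r)
  have h2 : Repr s (a ≫ p) ((univMat.{u} t').map r.appTop.hom) := ((repr_pullq_iff).2 h1).of_iso e he
  obtain ⟨G, hG, hG'⟩ := h2.unique (hM.comp a)
  show a ≫ p ≫ h = a ≫ gpt hk M t
  rw [← hr, comp_gpt hk a M hu, ← gpt_univMat hk t', comp_gpt hk r _ (isUnit_univMat t')]
  have hu' : IsUnit (mnr (G * (univMat.{u} t').map r.appTop.hom) t.em) := by
    rw [← hG', mnr_map]
    exact hu.map _
  simp only [hG']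
  exact (gpt_mul hk G _ (by rw [mnr_map]; exact (isUnit_univMat t').map _) hu').symm

/-- **Universal property**: every locally free quotient of rank `k` is classified by a unique morphism. -/
theorem existsUnique_classifies (hL : FlatMod.IsFinLocFreeOfRank k L) (s : free[T, N] ⟶ L) [Epi s] :
    ∃! h : T ⟶ Gr.{u} hk, Classifies hk s h := by
  choose U M t hx hr hu using fun x : T => exists_repr_unit hL s x
  let 𝒰 := T.openCoverOfIsOpenCover U (TopologicalSpace.IsOpenCover.mk
    (top_le_iff.1 fun x _ => TopologicalSpace.Opens.mem_iSup.2 ⟨x, hx x⟩))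
  have hglue : ∀ x y, pullback.fst (𝒰.f x) (𝒰.f y) ≫ gpt hk (M x) (t x) =
      pullback.snd (𝒰.f x) (𝒰.f y) ≫ gpt hk (M y) (t y) := fun x y => by
    obtain ⟨G, hG, hG'⟩ := ((hr x).comp (pullback.fst (U x).ι (U y).ι)).unique
      (repr_congr pullback.condition.symm ((hr y).comp (pullback.snd (U x).ι (U y).ι)))
    show pullback.fst (U x).ι (U y).ι ≫ _ = pullback.snd (U x).ι (U y).ι ≫ _
    rw [comp_gpt hk _ _ (hu x), comp_gpt hk _ _ (hu y), hG']
    exact (gpt_mul hk G _ (by rw [mnr_map]; exact (hu x).map _)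
      (by rw [← hG', mnr_map]; exact (hu y).map _)).symm
  let h := 𝒰.glueMorphisms (fun x => gpt hk (M x) (t x)) hglue
  have hh : ∀ x, (U x).ι ≫ h = gpt hk (M x) (t x) := fun x => 𝒰.ι_glueMorphisms _ hglue x
  refine ⟨h, exists_iso_of_repr U (fun x => ⟨x, hx x⟩) M
    (fun x => repr_pullq_iff.2 (repr_congr (hh x).symm (repr_gpt hk (M x) (hu x)))) hr, ?_⟩
  intro h' hc
  refine 𝒰.hom_ext _ _ fun x => ?_
  show (U x).ι ≫ h' = (U x).ι ≫ h
  rw [hh, hc.comp_eq hk (U x).ι (hr x) (hu x)]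

/-- The tautological quotient on a pullback is locally free of rank `k`. -/
theorem rank_pullback_tautQ (h : T ⟶ Gr.{u} hk) :
    FlatMod.IsFinLocFreeOfRank k ((Scheme.Modules.pullback h).obj (tautQ.{u} hk)) := fun x => by
  obtain ⟨t, ht⟩ := exists_mem_chart.{u} hk (h x)
  obtain ⟨κ, hκ, hκ'⟩ := exists_iso_chart.{u} hk t
  rw [← Scheme.Hom.coe_opensRange, opensRange_toGr] at ht
  let U := h ⁻¹ᵁ grOpen.{u} hk t
  let r := (h ∣_ grOpen.{u} hk t) ≫ inv κ
  have hr : r ≫ toGr hk t = U.ι ≫ h := by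
    rw [← hκ', Category.assoc, IsIso.inv_hom_id_assoc, morphismRestrict_ι]
  obtain ⟨a, e, -⟩ := (repr_pullq_iff (q := tautq.{u} hk) (p := U.ι) (h := h)).2
    (repr_congr hr ((repr_tautq.{u} hk t).comp r))
  exact ⟨U, ht, ⟨(Scheme.Modules.restrictFunctorIsoPullback _).app _ ≪≫ e⟩⟩

end Groth.Agent.Grass47
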